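import Cfsg.Agent.H40.Tame.FrameDef
import Cfsg.Agent.H40.Tame.Group
import Cfsg.Agent.H22.TameFrame
import Cfsg.Agent.H22.TameFrameRows
import Cfsg.Agent.H22.HeightZeroCount
import Cfsg.Agent.H31.RankTwo.RegularLift
import Cfsg.Agent.H40.KleinFour
import Cfsg.Agent.H45.HeisGroup

/-!
# The characters trivial on the central involution of a semidihedral or quaternion block

The frame and the rows of the block of the quotient by the central involution, stated on the
group itself.
-/

set_option autoImplicit false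
set_option linter.unusedSectionVars false
set_option linter.style.haveILetI false

open scoped ComplexConjugate Classical

namespace Cfsg.Agent.H40.Tame

open Cfsg
open Cfsg.Agent.H41 (ResField)
open Cfsg.Agent.H42 (regRes regInt blockFinset mem_blockFinset)
open Cfsg.Agent.H32 (scaledReg minVal)
open Cfsg.Agent.H44 (inflate)
open Cfsg.Agent.H40 (quotSet)

universe v

/-- The vectors coming from the cyclic subgroup of order four: an integer relation `E` of norm
four and `q - 1` independent relations, all vanishing away from the section of `σ ^ q`. -/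
def HasUVectors {H : Type v} [Group H] [Fintype H] (b : Set (IrrCharacter H)) (σ : H) (q : ℕ) :
    Prop :=
  ∃ (E : IrrCharacter H → ℤ) (v : Fin (q - 1) → IrrCharacter H → ℂ) (s₀ : ℤ),
    (s₀ = 1 ∨ s₀ = -1) ∧ (∀ χ ∉ b, E χ = 0 ∧ ∀ i, v i χ = 0) ∧
    (∑ χ ∈ blockFinset b, E χ ^ 2 = 4) ∧
    (∀ χ ∈ b, Odd (E χ) ↔ blockHeight 2 b (χ : H → ℂ) = 0) ∧
    (∀ χ : IrrCharacter H, E χ ≠ 0 →
      (χ : H → ℂ) (σ ^ (2 * q)) = (s₀ : ℂ) * (χ : H → ℂ) 1) ∧
    (∀ i, ∀ χ : IrrCharacter H, v i χ ≠ 0 →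
      (χ : H → ℂ) (σ ^ (2 * q)) = -(s₀ : ℂ) * (χ : H → ℂ) 1) ∧
    (∀ g : H, (∀ x : H, σ ^ q ∉ Subgroup.zpowers (x⁻¹ * g * x)) →
      (∑ χ ∈ blockFinset b, (E χ : ℂ) * (χ : H → ℂ) g = 0) ∧
      ∀ i, ∑ χ ∈ blockFinset b, v i χ * (χ : H → ℂ) g = 0) ∧
    LinearIndependent ℂ v

/-- The characters trivial on `z`: a signed frame with its rows. -/
structure Frame {H : Type v} [Group H] [Fintype H] (b : Set (IrrCharacter H)) (σ : H) (q : ℕ)
    {m e : ℕ} (ch : Ix m → IrrCharacter H) (ε : Ix m → ℤ) (qv : Fin e → Fin 4 → ℤ) (w : ℤ) :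
    Prop where
  m_eq : m + 1 = q
  inj : Function.Injective ch
  mem : ∀ i, ch i ∈ b
  sign : ∀ i, ε i = 1 ∨ ε i = -1
  triv : ∀ i, (ch i : H → ℂ) (σ ^ (2 * q)) = (ch i : H → ℂ) 1
  cover : ∀ χ ∈ b, (χ : H → ℂ) (σ ^ (2 * q)) = (χ : H → ℂ) 1 → ∃ i, ch i = χ
  height : ∀ i, blockHeight 2 b (ch i : H → ℂ) = 0 ↔ ∃ j, i = Sum.inl j
  suppE : ∀ g : H, (∀ x : H, σ ^ q ∉ Subgroup.zpowers (x⁻¹ * g * x)) → comb ch ε (vecE m) g = 0
  suppW : ∀ y, ∀ g : H, (∀ x : H, σ ^ q ∉ Subgroup.zpowers (x⁻¹ * g * x)) →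
    comb ch ε (vecW y) g = 0
  span : ∀ χ ∈ b, ∃ zc : Ix m → ℤ,
    regRes 2 (χ : H → ℂ) = ∑ i, (zc i : ℂ) • regRes 2 (ch i : H → ℂ)
  patterns : IsPatterns q qv w
  formula : ∀ i j, ε i * ε j * scaledReg 2 b (ch i) (ch j) =
    w * ∑ t, vecQ m (qv t) i * vecQ m (qv t) j + vecT m i * vecT m j

variable {H : Type v} [Group H] [Fintype H]

theorem zC_normal {z : H} (hz : ∀ g : H, g * z = z * g) : (Subgroup.zpowers z).Normal :=
  ⟨fun w hw g => by
    obtain ⟨i, rfl⟩ := hw
    have h : g * z ^ i = z ^ i * g := ((show Commute g z from hz g).zpow_right i).eq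
    rw [h, mul_inv_cancel_right]
    exact ⟨i, rfl⟩⟩

/-- A member trivial on a central element comes from the quotient. -/
theorem exists_inflate_of_triv {z : H} [(Subgroup.zpowers z).Normal] (hz : ∀ g : H, g * z = z * g)
    {χ : IrrCharacter H} (h : (χ : H → ℂ) z = (χ : H → ℂ) 1) :
    ∃ ψ, inflate (Subgroup.zpowers z) ψ = χ := by
  refine H44.exists_eq_inflate _ χ ?_
  rw [Subgroup.zpowers_le, H44.mem_kerOf]
  exact h

section

variable {M : Ideal AlgInt} {b : Set (IrrCharacter H)} {D : Subgroup H} {σ : H} {c : ℤ} {q : ℕ}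

/-- `u` is a power of `g` when its image is a power of the image of `g`. -/
theorem mem_zpowers_of_mk {u g : H} [(Subgroup.zpowers (u * u)).Normal] (hu4 : u ^ 4 = 1)
    (h : (u : H ⧸ Subgroup.zpowers (u * u)) ∈ Subgroup.zpowers (g : H ⧸ Subgroup.zpowers (u * u))) :
    u ∈ Subgroup.zpowers g := by
  obtain ⟨k, hk⟩ := h
  have h1 : (u⁻¹ * g ^ k) ∈ Subgroup.zpowers (u * u) := by
    rw [← QuotientGroup.eq, QuotientGroup.mk_zpow]
    exact hk.symm
  obtain ⟨j, hj⟩ := h1
  have h2 : g ^ k = u ^ (2 * j + 1) := by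
    have : g ^ k = u * (u * u) ^ j := by
      rw [show (u * u) ^ j = u⁻¹ * g ^ k from hj, mul_inv_cancel_left]
    rw [this, ← zpow_two, ← zpow_mul, add_comm, zpow_add, zpow_one]
  rcases Int.even_or_odd' j with ⟨l, rfl | rfl⟩
  · refine ⟨k, ?_⟩
    show g ^ k = u
    rw [h2, show 2 * (2 * l) + 1 = (4 : ℤ) * l + 1 by ring, zpow_add, zpow_mul,
      show (u ^ (4 : ℤ)) = 1 from mod_cast hu4, one_zpow, one_mul, zpow_one]
  · refine ⟨-k, ?_⟩
    show g ^ (-k) = u
    rw [zpow_neg, h2, ← zpow_neg, show -(2 * (2 * l + 1) + 1) = (4 : ℤ) * (-l - 1) + 1 by ring,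
      zpow_add, zpow_mul, show (u ^ (4 : ℤ)) = 1 from mod_cast hu4, one_zpow, one_mul, zpow_one]

/-- The frame of the characters trivial on `z` with its rows. -/
theorem exists_frame (hM : IsPModular 2 M) (hB : IsPBlock M b) (hD : IsDefectGroup 2 M b D)
    (hd : TData D σ c q) (hz : ∀ g : H, g * σ ^ (2 * q) = σ ^ (2 * q) * g)
    (hU : HasUVectors b σ q) :
    ∃ (m e : ℕ) (ch : Ix m → IrrCharacter H) (ε : Ix m → ℤ) (qv : Fin e → Fin 4 → ℤ) (w : ℤ),
      Frame b σ q ch ε qv w := by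
  haveI : Fact (Nat.Prime 2) := ⟨Nat.prime_two⟩
  haveI : M.IsMaximal := hM.2.1
  haveI := H41.IsPModular.charP hM
  obtain ⟨a, ha⟩ := hd.pow
  have hqpos := hd.q_pos
  haveI hN : (Subgroup.zpowers (σ ^ (2 * q))).Normal := zC_normal hz
  set Q := Subgroup.zpowers (σ ^ (2 * q)) with hQdef
  haveI : Fintype (H ⧸ Q) := Fintype.ofFinite _
  have hQc : Nat.card Q = 2 := by rw [hQdef, Nat.card_zpowers, hd.orderOf_z]
  have hQ : IsPGroup 2 Q := IsPGroup.of_card (n := 1) (by rw [hQc, pow_one])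
  have hsup : Q ⊔ Subgroup.centralizer (Q : Set H) = ⊤ := by
    refine top_le_iff.1 fun g _ => Subgroup.mem_sup_right (Subgroup.mem_centralizer_iff.2 ?_)
    rintro w ⟨i, rfl⟩
    exact ((show Commute g (σ ^ (2 * q)) from hz g).zpow_right i).eq.symm
  have hQcen : Q ≤ Subgroup.center H :=
    Subgroup.zpowers_le.2 (Subgroup.mem_center_iff.2 hz)
  -- the block below
  have hqb := H20.BrauerFeit.isPBlock_quotSet hM hB hQ hsup
  have hdef := H20.BrauerFeit.blockDefect_quotSet hM hB hQ hsup (j := 1) (by rw [hQc, pow_one])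
  set bb := quotSet Q b with hbb
  set π := QuotientGroup.mk' Q with hπ
  obtain ⟨Bbar, hBbar, hsub, hdefgrp⟩ := H40.exists_quotient_block Q hM hQ hB
  have hDbar : IsDefectGroup 2 M bb (D.map π) := by
    obtain ⟨φ, hφ⟩ := H41.IsPBlock.nonempty hBbar
    rw [← H41.block_eq_of_mem_of_mem hBbar hqb hφ (hsub hφ)]
    exact (hdefgrp _).2 ⟨D, hD, rfl⟩
  have hd8 : 2 ^ blockDefect 2 b = 8 * q := by rw [← H40.card_defectGroup hM hB hD, hd.card]
  have hdq : 2 ^ blockDefect 2 bb = 4 * q := by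
    rw [← hdef, pow_succ] at hd8
    omega
  have hcardD : Nat.card (D.map π) = 4 * q := by rw [H40.card_defectGroup hM hqb hDbar, hdq]
  -- inflation
  have hcardH : Nat.card H = Nat.card (H ⧸ Q) * 2 := by
    rw [Subgroup.card_eq_card_quotient_mul_card_subgroup Q, hQc]
  have hfac : (Nat.card H).factorization 2 = (Nat.card (H ⧸ Q)).factorization 2 + 1 := by
    rw [hcardH, Nat.factorization_mul Nat.card_pos.ne' two_ne_zero]
    simp [Nat.Prime.factorization_self Nat.prime_two]
  have hht : ∀ φ ∈ bb, blockHeight 2 b (inflate Q φ : H → ℂ) = blockHeight 2 bb (φ : H ⧸ Q → ℂ) := by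
    intro φ hφ
    have h1 := H42.factorization_degree_add_defect (p := 2) hqb hφ
    have h2 := H42.factorization_degree_add_defect (p := 2) hB (χ := inflate Q φ) hφ
    have h3 : charDegree (inflate Q φ : H → ℂ) = charDegree (φ : H ⧸ Q → ℂ) := by
      apply Nat.cast_injective (R := ℂ)
      rw [← H42.irr_one_eq, ← H42.irr_one_eq, H44.inflate_apply, QuotientGroup.mk_one]
    rw [h3] at h2
    omega
  have hscal : ∀ φ ∈ bb, ∀ η : IrrCharacter (H ⧸ Q),
      scaledReg 2 b (inflate Q φ) (inflate Q η) = scaledReg 2 bb φ η := by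
    intro φ hφ η
    apply Int.cast_injective (α := ℂ)
    rw [H20.BrauerFeit.cast_scaledReg_eq hM hB (φ := inflate Q φ) hφ,
      H20.BrauerFeit.cast_scaledReg_eq hM hqb hφ, H20.BrauerFeit.classInner_regRes_regRes,
      H20.BrauerFeit.classInner_regRes_regRes, ← H20.BrauerFeit.classInner_regRes_inflate hQ hsup,
      hQc, ← hdef, pow_succ]
    ring
  -- a frame on the quotient
  have hframe : ∃ (m : ℕ) (ch : Ix m → IrrCharacter (H ⧸ Q)) (ε : Ix m → ℤ) (S : H ⧸ Q → Prop),
      m + 1 = q ∧ IsFrame bb S ch ε ∧ (m = 0 → blockRank 2 bb = 1 ∨ blockRank 2 bb = 3) ∧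
      ∀ g : H, (∀ x : H, σ ^ q ∉ Subgroup.zpowers (x⁻¹ * g * x)) → ¬ S (g : H ⧸ Q) := by
    have hu4 : (σ ^ q) ^ 4 = 1 := by rw [← hd.orderOf_u, pow_orderOf_eq_one]
    let S : H ⧸ Q → Prop := fun y => ∃ x : H ⧸ Q, π σ ^ q ∈ Subgroup.zpowers (x * y * x⁻¹)
    have hS : ∀ g : H, (∀ x : H, σ ^ q ∉ Subgroup.zpowers (x⁻¹ * g * x)) → ¬ S (g : H ⧸ Q) := by
      rintro g hg ⟨x, hx⟩
      obtain ⟨x, rfl⟩ := QuotientGroup.mk_surjective x
      refine hg x⁻¹ ?_
      rw [inv_inv]
      haveI : (Subgroup.zpowers (σ ^ q * σ ^ q)).Normal := by rw [hd.u_sq]; exact hN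
      refine mem_zpowers_of_mk hu4 ?_
      have hQQ : Subgroup.zpowers (σ ^ q * σ ^ q) = Q := by rw [hd.u_sq]
      rw [← map_pow, hπ, QuotientGroup.mk'_apply] at hx
      obtain ⟨k, hk⟩ := hx
      refine ⟨k, ?_⟩
      show ((x * g * x⁻¹ : H) : H ⧸ Subgroup.zpowers (σ ^ q * σ ^ q)) ^ k = _
      rw [← QuotientGroup.mk_zpow, QuotientGroup.eq, hQQ, ← QuotientGroup.eq]
      rw [QuotientGroup.mk_zpow]
      exact hk
    by_cases hq1 : q = 1
    · -- the defect group below is a four group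
      have h4 : Nat.card (D.map π) = 4 := by rw [hcardD, hq1]
      have hz1 : π (σ ^ (2 * q)) = 1 :=
        (QuotientGroup.eq_one_iff _).2 (Subgroup.mem_zpowers _)
      have hsq : ∀ x ∈ D.map π, x * x = 1 := by
        rintro _ ⟨w, hw, rfl⟩
        rw [← map_mul]
        by_cases hA : w ∈ Subgroup.zpowers σ
        · obtain ⟨i, rfl⟩ := hA
          rw [← zpow_add, show i + i = ((2 * q : ℕ) : ℤ) * i by subst hq1; push_cast; ring,
            zpow_mul, zpow_natCast, map_zpow, hz1, one_zpow]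
        · rcases hd.sq w hw hA with h | h
          · rw [h, map_one]
          · rw [h, hz1]
      obtain ⟨ee, hm⟩ := H40.NilpotentBlocks.exists_isMaxEl_of_defect hM hqb hDbar
      obtain ⟨hE, hk, hl⟩ := H40.klein_four_invariants hM hqb hm hDbar h4 hsq
      rw [← hl] at hE
      obtain ⟨E, v, s₀, hs₀, hoff, hE4, hodd, hEz, -, hsupp, -⟩ := hU
      -- four members, all of height zero
      have hd2 : blockDefect 2 bb = 2 :=
        Nat.pow_right_injective le_rfl (hdq.trans (by rw [hq1]))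
      obtain ⟨φ₀, hφ₀, hφ00, -⟩ := H42.exists_height_zero (p := 2) hqb
      have h4z := H22.dvd_sum_zeroSet_sq hM hqb hφ₀ hφ00 (i := 2) le_rfl (by omega)
      have hzc : (4 : ℕ) ∣ (H22.zeroSet 2 bb).card := by
        have key : ∀ ψ ∈ H22.zeroSet 2 bb, (4 : ℤ) ∣ scaledReg 2 bb φ₀ ψ ^ 2 - 1 := by
          intro ψ hψ
          obtain ⟨hψb, hψ0⟩ := H22.mem_zeroSet.1 hψ
          obtain ⟨k, hk⟩ : Odd (scaledReg 2 bb φ₀ ψ) := Int.not_even_iff_odd.1 fun h =>
            H22.not_dvd_scaledReg_of_height_zero hM hqb hφ₀ hφ00 hψb hψ0 (even_iff_two_dvd.1 h)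
          exact ⟨k * k + k, by rw [hk]; ring⟩
        have h := dvd_sub h4z ((by norm_num : (2 : ℤ) ^ 2 = 4) ▸ Finset.dvd_sum key :
          (2 : ℤ) ^ 2 ∣ _)
        rw [← Finset.sum_sub_distrib] at h
        simp only [sub_sub_cancel, Finset.sum_const, nsmul_eq_mul, mul_one] at h
        exact_mod_cast h
      have hbb4 : (blockFinset bb).card = 4 := by
        rw [← hk, Nat.card_eq_fintype_card]
        exact (Fintype.card_of_finset' _ fun χ => mem_blockFinset).symm
      have hsubz : H22.zeroSet 2 bb ⊆ blockFinset bb := fun ψ hψ =>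
        mem_blockFinset.2 (H22.mem_zeroSet.1 hψ).1
      have hzall : ∀ φ ∈ bb, blockHeight 2 bb (φ : H ⧸ Q → ℂ) = 0 := fun φ hφ => by
        have hpos : 0 < (H22.zeroSet 2 bb).card :=
          Finset.card_pos.2 ⟨φ₀, H22.mem_zeroSet.2 ⟨hφ₀, hφ00⟩⟩
        have heq := Finset.eq_of_subset_of_card_le hsubz
          (by rw [hbb4]; exact Nat.le_of_dvd hpos hzc)
        exact (H22.mem_zeroSet.1 (heq ▸ mem_blockFinset.2 hφ)).2
      have hcard' : Fintype.card (Fin 4) = Fintype.card bb := by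
        rw [Fintype.card_fin, ← Nat.card_eq_fintype_card, hk]
      let e4 := Fintype.equivOfCardEq hcard'
      let ch : Ix 0 → IrrCharacter (H ⧸ Q) := Sum.elim (fun i => (e4 i : IrrCharacter (H ⧸ Q)))
        fun i => Fin.elim0 i
      have hch : ∀ i, ch i ∈ bb := by
        rintro (i | i)
        · exact (e4 i).2
        · exact Fin.elim0 i
      have hEone : ∀ i, E (inflate Q (ch i)) = 1 ∨ E (inflate Q (ch i)) = -1 := by
        intro i
        -- the four squares are odd and at most four in sum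
        have hsq1 : ∀ φ ∈ blockFinset bb, 1 ≤ E (inflate Q φ) ^ 2 := fun φ hφ => by
          have hφb : φ ∈ bb := mem_blockFinset.1 hφ
          obtain ⟨k, hk⟩ := (hodd (inflate Q φ) hφb).2 ((hht φ hφb).trans (hzall φ hφb))
          have h0 : E (inflate Q φ) ≠ 0 := by omega
          exact Int.add_one_le_iff.2 (sq_pos_of_ne_zero h0)
        have hle : ∑ φ ∈ blockFinset bb, E (inflate Q φ) ^ 2 ≤ 4 := by
          rw [← hE4, ← Finset.sum_image (f := fun χ => E χ ^ 2) (g := inflate Q)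
            fun x _ y _ h => H44.inflate_injective Q h]
          refine Finset.sum_le_sum_of_subset_of_nonneg (fun χ hχ => ?_) fun χ _ _ => sq_nonneg _
          obtain ⟨φ, hφ, rfl⟩ := Finset.mem_image.1 hχ
          exact mem_blockFinset.2 (show inflate Q φ ∈ b from (mem_blockFinset (B := bb)).1 hφ)
        have hi := mem_blockFinset.2 (hch i)
        have h3 : (3 : ℤ) ≤ ∑ φ ∈ (blockFinset bb).erase (ch i), E (inflate Q φ) ^ 2 := by
          have := Finset.card_nsmul_le_sum ((blockFinset bb).erase (ch i))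
            (fun φ => E (inflate Q φ) ^ 2) 1 fun φ hφ => hsq1 φ (Finset.mem_of_mem_erase hφ)
          rw [Finset.card_erase_of_mem hi, hbb4] at this
          simpa using this
        rw [← Finset.add_sum_erase _ _ hi] at hle
        have h1 := hsq1 _ hi
        have h2 : E (inflate Q (ch i)) ^ 2 = 1 := by omega
        exact sq_eq_one_iff.1 h2
      have hchinj : Function.Injective ch := by
        rintro (i | i) (j | j) h
        · exact congrArg Sum.inl (e4.injective (Subtype.ext h))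
        · exact Fin.elim0 j
        · exact Fin.elim0 i
        · exact Fin.elim0 i
      have hcinj : Function.Injective fun i => inflate Q (ch i) :=
        (H44.inflate_injective Q).comp hchinj
      set I := (Finset.univ : Finset (Ix 0)).image fun i => inflate Q (ch i) with hI
      have hIb : I ⊆ blockFinset b := fun χ hχ => by
        obtain ⟨i, -, rfl⟩ := Finset.mem_image.1 hχ
        exact mem_blockFinset.2 (show inflate Q (ch i) ∈ b from hch i)
      have hIsum : ∑ χ ∈ I, E χ ^ 2 = 4 := by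
        rw [hI, Finset.sum_image fun x _ y _ h => hcinj h,
          Finset.sum_congr rfl fun i _ => sq_eq_one_iff.2 (hEone i)]
        simp
      have hEoff : ∀ χ ∈ blockFinset b, χ ∉ I → E χ = 0 := fun χ hχ hn => by
        have h := hE4
        rw [← Finset.sum_sdiff hIb, hIsum] at h
        have h0 : ∑ χ ∈ blockFinset b \ I, E χ ^ 2 = 0 := by omega
        exact pow_eq_zero_iff two_ne_zero |>.1 ((Finset.sum_eq_zero_iff_of_nonneg fun χ _ =>
          sq_nonneg (E χ)).1 h0 χ (Finset.mem_sdiff.2 ⟨hχ, hn⟩))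
      have combE : ∀ g' : H, (∀ x : H, σ ^ q ∉ Subgroup.zpowers (x⁻¹ * g' * x)) →
          comb ch (fun i => E (inflate Q (ch i))) (vecE 0) (g' : H ⧸ Q) = 0 := by
        intro g' hg'
        rw [← (hsupp g' hg').1, ← Finset.sum_subset hIb fun χ hχ hn => by
          rw [hEoff χ hχ hn, Int.cast_zero, zero_mul], hI, Finset.sum_image fun x _ y _ h => hcinj h,
          comb]
        refine Finset.sum_congr rfl fun i _ => ?_
        rcases i with i | i
        · simp [vecE, H44.inflate_apply]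
        · exact Fin.elim0 i
      refine ⟨0, ch, fun i => E (inflate Q (ch i)), S, by omega, ⟨?_, ?_, hEone, fun i => ?_,
        fun g hg => ?_, fun x => Fin.elim0 x, fun g hg => ?_, fun x => Fin.elim0 x⟩,
        fun _ => hE, hS⟩
      · exact hchinj
      · refine Set.Subset.antisymm (Set.range_subset_iff.2 hch) fun φ hφ => ⟨Sum.inl (e4.symm ⟨φ, hφ⟩), ?_⟩
        simp [ch]
      · rcases i with i | i
        · exact iff_of_true (hzall _ (hch _)) ⟨i, rfl⟩
        · exact Fin.elim0 i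
      · -- through a regular preimage
        obtain ⟨g', hg', rfl⟩ := H40.exists_regular_lift hQ hg
        refine combE g' fun x h => hg' ?_
        have h1 := orderOf_dvd_of_mem_zpowers h
        rw [hd.orderOf_u, show x⁻¹ * g' * x = MulAut.conj x⁻¹ g' by simp,
          MulEquiv.orderOf_eq] at h1
        exact (show 2 ∣ 4 from ⟨2, rfl⟩).trans h1
      · obtain ⟨g', rfl⟩ := QuotientGroup.mk_surjective g
        refine combE g' fun x h => hg ⟨((x⁻¹ : H) : H ⧸ Q), ?_⟩
        obtain ⟨k, hk⟩ := h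
        refine ⟨k, ?_⟩
        show _ = π σ ^ q
        rw [← map_pow, hπ, QuotientGroup.mk'_apply, ← hk, QuotientGroup.mk_zpow]
        simp
    · have h2 : 2 ≤ q := by omega
      obtain ⟨τ, hτ, hτA⟩ := hd.exists_outside
      have hQA : Q ≤ Subgroup.zpowers σ :=
        Subgroup.zpowers_le.2 (Subgroup.pow_mem _ (Subgroup.mem_zpowers σ) _)
      have hout : ∀ w : H, π w ∈ Subgroup.zpowers (π σ) → w ∈ Subgroup.zpowers σ := by
        rintro w ⟨i, hi⟩
        change π σ ^ i = π w at hi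
        rw [← map_zpow, hπ, QuotientGroup.mk'_apply, QuotientGroup.mk'_apply, QuotientGroup.eq] at hi
        have := (Subgroup.zpowers σ).mul_mem (Subgroup.zpow_mem _ (Subgroup.mem_zpowers σ) i)
          (hQA hi)
        rwa [mul_inv_cancel_left] at this
      have hord : orderOf (π σ) = 2 * q := by
        rw [ha, ← pow_succ']
        refine orderOf_eq_prime_pow (fun h => ?_) ?_
        · rw [← map_pow, ← ha, hπ, QuotientGroup.mk'_apply, QuotientGroup.eq_one_iff] at h
          have h4 := orderOf_dvd_of_mem_zpowers h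
          rw [hd.orderOf_u, hd.orderOf_z] at h4
          omega
        · rw [← map_pow, pow_succ', ← ha, hπ, QuotientGroup.mk'_apply, QuotientGroup.eq_one_iff]
          exact Subgroup.mem_zpowers _
      have hz1 : π (σ ^ (2 * q)) = 1 := (QuotientGroup.eq_one_iff _).2 (Subgroup.mem_zpowers _)
      have hdd : H22.Dihedral.DihData (D.map π) (π σ) (π τ) q := by
        refine ⟨h2, ?_, Subgroup.mem_map_of_mem π hd.σ_mem, Subgroup.mem_map_of_mem π hτ, hord,
          fun h => hτA (hout τ h), hcardD, ?_⟩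
        · obtain ⟨b', rfl⟩ : ∃ b', a = b' + 1 := ⟨a - 1, by
            rcases a with - | a
            · simp at ha; omega
            · omega⟩
          exact ⟨2 ^ b', by rw [ha, pow_succ]; ring⟩
        · rintro _ ⟨w, hw, rfl⟩ ho
          have hA : w ∉ Subgroup.zpowers σ := fun h => ho (by
            obtain ⟨i, rfl⟩ := h
            rw [map_zpow]; exact ⟨i, rfl⟩)
          refine ⟨?_, ?_⟩
          · rw [← map_mul]
            rcases hd.sq w hw hA with h | h
            · rw [h, map_one]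
            · rw [h, hz1]
          · rw [← map_inv, ← map_mul, ← map_mul, hd.conj w hw hA, map_zpow]
            rcases hd.cform with rfl | ⟨rfl, -⟩
            · rw [zpow_neg_one]
            · rw [show 2 * (q : ℤ) - 1 = ((2 * q : ℕ) : ℤ) + (-1) by push_cast; ring, zpow_add,
                zpow_natCast, ← hord, pow_orderOf_eq_one, one_mul, zpow_neg_one]
      obtain ⟨ch, ε, hF⟩ := H22.TameFrame.exists_isFrame hM hqb hDbar hdd
      exact ⟨q - 1, ch, ε, S, by omega, hF, fun h0 => by omega, hS⟩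
  obtain ⟨m, ch₀, ε₀, S, hm1, hF₀, hm0, hS⟩ := hframe
  obtain ⟨ch, ε, e, qv, w, hF, hR⟩ :=
    H22.TameRows.exists_rows hM hqb hF₀ (by rw [hdq, hm1]) hm0
  have hmem : ∀ i, ch i ∈ bb := fun i => hF.range ▸ Set.mem_range_self i
  refine ⟨m, e, fun i => inflate Q (ch i), ε, qv, w, hm1,
    (H44.inflate_injective Q).comp hF.inj, hmem, hF.sign, fun i => ?_, fun χ hχ hχz => ?_,
    fun i => ?_, fun g hg => ?_, fun y g hg => ?_, fun χ hχ => ?_, hm1 ▸ hR.patterns,
    fun i j => ?_⟩
  · show (inflate Q (ch i) : H → ℂ) _ = _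
    rw [H44.inflate_apply, H44.inflate_apply, QuotientGroup.mk_one,
      (QuotientGroup.eq_one_iff (σ ^ (2 * q))).2 (Subgroup.mem_zpowers _)]
  · obtain ⟨ψ, rfl⟩ := exists_inflate_of_triv hz hχz
    obtain ⟨i, hi⟩ : ψ ∈ Set.range ch := hF.range ▸ hχ
    exact ⟨i, congrArg (inflate Q) hi⟩
  · rw [hht _ (hmem i)]
    exact hF.height i
  · exact hF.suppE _ (hS g hg)
  · exact hF.suppW y _ (hS g hg)
  · obtain ⟨z, hzc⟩ := H31.RankTwo.exists_int_quot hM hB hQ hQcen hχ
    refine ⟨fun i => z (ch i), hzc.trans ?_⟩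
    rw [← Finset.sum_image (f := fun φ => (z φ : ℂ) • regRes 2 (inflate Q φ : H → ℂ))
      (fun x _ y _ h => hF.inj h)]
    refine Finset.sum_congr ?_ fun _ _ => rfl
    ext φ
    simp only [Finset.mem_filter, Finset.mem_univ, true_and, Finset.mem_image]
    rw [← hbb, ← hF.range]
    rfl
  · rw [hscal _ (hmem i)]
    exact hR.formula i j

end

end Cfsg.Agent.H40.Tame
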