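import Cfsg.Agent.H40.Tame.Rows
import Cfsg.Agent.H40.Tame.Local
import Cfsg.Agent.H40.Tame.Comb
import Cfsg.Agent.H40.Tame.TI
import Cfsg.Agent.H22.TameU
import Cfsg.Agent.H22.StarNonzero

/-!
# The relations of a block with central involution

The relations `E`, `f`, `g` of the normal form, the extra ones, and their independence.
-/

set_option autoImplicit false
set_option linter.unusedSectionVars false
set_option linter.style.haveILetI false

open scoped ComplexConjugate Classical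

namespace Cfsg.Agent.H40.Tame

open Cfsg
open Cfsg.Agent.H42 (regRes regInt blockFinset mem_blockFinset)
open Cfsg.Agent.H32 (scaledReg)
open Cfsg.Agent.H22 (CZ IsMaxEl PLe elTop el pp pp_eq sec blocksOf Below)
open Cfsg.Agent.H41 (ResField)

universe v

variable {H : Type v} [Group H] [Fintype H]

/-- A combination vanishing unless `z` is a power. -/
def Vanish (b : Set (IrrCharacter H)) (z : H) (k : IrrCharacter H → ℂ) : Prop :=
  ∀ x : H, z ∉ Subgroup.zpowers x → ∑ φ ∈ blockFinset b, k φ * (φ : H → ℂ) x = 0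

/-- The relations with their Gram matrix, the form of the columns and an independent family. -/
structure Kernel (b : Set (IrrCharacter H)) (z : H) (q e : ℕ) {ι : Type} [Fintype ι]
    (E : IrrCharacter H → ℤ) (f : Fin (2 * q - 1) → IrrCharacter H → ℤ)
    (g : Fin e → IrrCharacter H → ℤ) (κ : Fin (2 * q - 1) → ℤ)
    (fam : ι → IrrCharacter H → ℂ) : Prop where
  e_le : e ≤ 2
  κ_sum : ∑ x, κ x = -1
  κ_sign : ∀ x, κ x = 1 ∨ κ x = -1
  parity : ∀ φ ∈ b, Odd (E φ) ↔ blockHeight 2 b (φ : H → ℂ) = 0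
  ee : ∑ φ ∈ blockFinset b, E φ * E φ = 4
  ef : ∀ x, ∑ φ ∈ blockFinset b, E φ * f x φ = 2
  eg : ∀ i, ∑ φ ∈ blockFinset b, E φ * g i φ = 2
  ff : ∀ x y, ∑ φ ∈ blockFinset b, f x φ * f y φ = if x = y then 3 else 2
  fg : ∀ x i, ∑ φ ∈ blockFinset b, f x φ * g i φ = 1
  gg : ∀ i j, ∑ φ ∈ blockFinset b, g i φ * g j φ = if i = j then 3 else 1
  form : ∀ φ ∈ b, ∀ η ∈ b, ∃ s t : ℤ, (φ : H → ℂ) z = (s : ℂ) * (φ : H → ℂ) 1 ∧
    (η : H → ℂ) z = (t : ℂ) * (η : H → ℂ) 1 ∧
    s * t * scaledReg 2 b φ η = Comb.form q E f g κ φ η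
  vanE : Vanish b z fun φ => (E φ : ℂ)
  vanf : ∀ x, Vanish b z fun φ => (f x φ : ℂ)
  vang : ∀ i, Vanish b z fun φ => (g i φ : ℂ)
  vanfam : ∀ j, Vanish b z (fam j)
  indep : ∀ a : ι → ℂ, (∀ φ ∈ b, ∑ j, a j * fam j φ = 0) → a = 0

/-- The relation `E` on the index set. -/
def vE (q e : ℕ) : J q e → ℤ := Sum.elim (fun _ => 1) fun _ => 0

/-- The relations `f` on the index set. -/
def vF {q : ℕ} (e : ℕ) (x : Fin (2 * q - 1)) : J q e → ℤ :=
  Sum.elim ![1, 1, 0, 0] (Sum.elim (fun y => if y = x then 1 else 0) fun _ => 0)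

/-- The pairs of the relations `g`. -/
def pairR {e : ℕ} (t : Fin e) : Fin 4 → ℤ :=
  if (t : ℕ) = 0 then ![1, 0, 1, 0] else ![1, 0, 0, 1]

/-- The relations `g` on the index set. -/
def vG (q : ℕ) {e : ℕ} (t : Fin e) : J q e → ℤ :=
  Sum.elim (pairR t) (Sum.elim (fun _ => 0) fun i => if i = t then 1 else 0)

theorem zeta_rowQ {q e : ℕ} (κ : Fin (2 * q - 1) → ℤ) (t : Fin e) (i : J q e) :
    zeta e κ i * rowQ q t i = -vE q e i + 2 * vG q t i := by
  rcases i with a | x | w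
  · simp only [zeta, rowQ, vE, vG, Sum.elim_inl, pat, pairR]
    split_ifs <;> fin_cases a <;> norm_num
  · simp [zeta, rowQ, vE, vG]
  · simp only [zeta, rowQ, vE, vG, Sum.elim_inr]
    split_ifs <;> norm_num

theorem zeta_rowT {q e : ℕ} (κ : Fin (2 * q - 1) → ℤ) (hκ : ∑ x, κ x = -1) (i : J q e) :
    zeta e κ i * rowT q e i = -vE q e i - 2 * ∑ x, κ x * vF e x i := by
  rcases i with a | y | w
  · simp only [zeta, rowT, vE, vF, Sum.elim_inl]
    rw [← Finset.sum_mul, hκ]
    fin_cases a <;> norm_num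
  · simp [zeta, rowT, vE, vF]
    ring
  · simp [zeta, rowT, vE, vF]

variable {b : Set (IrrCharacter H)} {σ : H} {q e : ℕ} {ch : J q e → IrrCharacter H}
  {sg : J q e → ℤ} {κ : Fin (2 * q - 1) → ℤ}

/-- A vector on the index set as a function on characters. -/
noncomputable def pull {R : Type*} [Ring R] (ch : J q e → IrrCharacter H) (sg : J q e → ℤ)
    (v : J q e → R) (φ : IrrCharacter H) : R :=
  ∑ i, if ch i = φ then (sg i : R) * v i else 0

theorem pull_apply {R : Type*} [Ring R] (hN : Norm b σ q e ch sg κ) (v : J q e → R)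
    (i : J q e) : pull ch sg v (ch i) = (sg i : R) * v i := by
  rw [pull, Finset.sum_eq_single i (fun j _ hj => if_neg fun h => hj (hN.inj h)) (by simp),
    if_pos rfl]

theorem cast_pull (hN : Norm b σ q e ch sg κ) (v : J q e → ℤ) (φ : IrrCharacter H) :
    ((pull ch sg v φ : ℤ) : ℂ) = pull ch sg (fun i => (v i : ℂ)) φ := by
  simp only [pull, Int.cast_sum, Int.cast_id]
  exact Finset.sum_congr rfl fun i _ => by split_ifs <;> simp

theorem Norm.sum_eq (hN : Norm b σ q e ch sg κ) {α : Type*} [AddCommMonoid α]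
    (F : IrrCharacter H → α) : ∑ φ ∈ blockFinset b, F φ = ∑ i, F (ch i) := by
  rw [← Finset.sum_image (s := (Finset.univ : Finset (J q e))) (g := ch)
    (fun x _ y _ h => hN.inj h)]
  refine Finset.sum_congr ?_ fun _ _ => rfl
  ext φ
  rw [mem_blockFinset, ← hN.range]
  simp

theorem Norm.mem (hN : Norm b σ q e ch sg κ) (i : J q e) : ch i ∈ b :=
  hN.range ▸ Set.mem_range_self i

theorem Norm.sgsq (hN : Norm b σ q e ch sg κ) (i : J q e) : sg i * sg i = 1 := by
  rcases hN.sign i with h | h <;> simp [h]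

theorem sum_pull_mul (hN : Norm b σ q e ch sg κ) (v w : J q e → ℤ) :
    ∑ φ ∈ blockFinset b, pull ch sg v φ * pull ch sg w φ = ∑ i, v i * w i := by
  rw [hN.sum_eq]
  refine Finset.sum_congr rfl fun i _ => ?_
  rw [pull_apply hN, pull_apply hN, Int.cast_id]
  linear_combination (v i * w i) * hN.sgsq i

variable [Fact (Nat.Prime 2)] {M : Ideal AlgInt}

/-- When a vector is killed by the columns, its combination vanishes on the regular elements. -/
theorem vanish_pull (hM : IsPModular 2 M) (hB : IsPBlock M b) (hN : Norm b σ q e ch sg κ)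
    (v : J q e → ℂ) (hT : ∑ i, v i * (rowT q e i : ℂ) = 0)
    (hQ : ∀ t : Fin e, ∑ i, v i * (rowQ q t i : ℂ) = 0)
    (hoff : ∀ g : H, 2 ∣ orderOf g → σ ^ (2 * q) ∉ Subgroup.zpowers g →
      ∑ i, v i * ((sg i : ℂ) * (ch i : H → ℂ) g) = 0) :
    Vanish b (σ ^ (2 * q)) (pull ch sg v) := by
  intro x hx
  by_cases hg : 2 ∣ orderOf x
  · rw [hN.sum_eq, ← hoff x hg hx]
    exact Finset.sum_congr rfl fun i _ => by rw [pull_apply hN]; ring
  · refine sum_apply_eq_zero_of_rows hM hB (fun η hη => ?_) hg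
    obtain ⟨j, rfl⟩ : η ∈ Set.range ch := hN.range ▸ hη
    rw [hN.sum_eq]
    calc ∑ i, pull ch sg v (ch i) * (scaledReg 2 b (ch i) (ch j) : ℂ)
        = ∑ i, (sg j : ℂ) * ((q : ℂ) * ∑ t : Fin e, v i * (rowQ q t i : ℂ) * (rowQ q t j : ℂ) +
            v i * (rowT q e i : ℂ) * (rowT q e j : ℂ)) := by
          refine Finset.sum_congr rfl fun i _ => ?_
          have h := congrArg (fun n : ℤ => (n : ℂ)) (hN.formula i j)
          push_cast at h
          rw [pull_apply hN, show ∑ t : Fin e, v i * (rowQ q t i : ℂ) * (rowQ q t j : ℂ) =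
            v i * ∑ t : Fin e, (rowQ q t i : ℂ) * (rowQ q t j : ℂ) by
              rw [Finset.mul_sum]; exact Finset.sum_congr rfl fun t _ => by ring]
          have hs : (sg j : ℂ) * (sg j : ℂ) = 1 := by exact_mod_cast hN.sgsq j
          linear_combination (v i * (sg j : ℂ)) * h -
            ((sg i : ℂ) * v i * (scaledReg 2 b (ch i) (ch j) : ℂ)) * hs
      _ = (sg j : ℂ) * ((q : ℂ) * ∑ t : Fin e, (∑ i, v i * (rowQ q t i : ℂ)) * (rowQ q t j : ℂ) +
            (∑ i, v i * (rowT q e i : ℂ)) * (rowT q e j : ℂ)) := by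
          rw [← Finset.mul_sum, Finset.sum_add_distrib, ← Finset.mul_sum, Finset.sum_comm]
          simp only [Finset.sum_mul]
      _ = 0 := by simp [hT, hQ]

theorem sum_J {α : Type*} [AddCommMonoid α] (F : J q e → α) :
    ∑ i, F i = ∑ a, F (Sum.inl a) +
      (∑ x, F (Sum.inr (Sum.inl x)) + ∑ t, F (Sum.inr (Sum.inr t))) := by
  rw [Fintype.sum_sum_type, Fintype.sum_sum_type]

/-- The three kinds of relations vanish. -/
theorem vanish_basic (hM : IsPModular 2 M) (hB : IsPBlock M b) (hN : Norm b σ q e ch sg κ) :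
    Vanish b (σ ^ (2 * q)) (fun φ => ((pull ch sg (vE q e) φ : ℤ) : ℂ)) ∧
    (∀ x, Vanish b (σ ^ (2 * q)) fun φ => ((pull ch sg (vF e x) φ : ℤ) : ℂ)) ∧
    ∀ t : Fin e, Vanish b (σ ^ (2 * q)) fun φ => ((pull ch sg (vG q t) φ : ℤ) : ℂ) := by
  have he := hN.e_le
  simp only [cast_pull hN]
  refine ⟨?_, fun x => ?_, fun t => ?_⟩
  · refine vanish_pull hM hB hN _ ?_ (fun t => ?_) fun g hg hgz => ?_
    · simp [sum_J, vE, rowT, Fin.sum_univ_four]
    · simp [sum_J, vE, rowQ, pat]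
      split_ifs <;> simp [Fin.sum_univ_four]
    · obtain ⟨-, h1, h2, -, -⟩ := hN.off g hg hgz _ fun i => rfl
      simp [sum_J, vE, Fin.sum_univ_four]
      linear_combination h1 + h2
  · refine vanish_pull hM hB hN _ ?_ (fun t => ?_) fun g hg hgz => ?_
    · simp [sum_J, vF, rowT, Fin.sum_univ_four]
      norm_num
    · simp [sum_J, vF, rowQ, pat, Fin.sum_univ_four]
      split_ifs <;> simp
    · obtain ⟨h0, h1, -, -, -⟩ := hN.off g hg hgz _ fun i => rfl
      simp [sum_J, vF, Fin.sum_univ_four]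
      linear_combination h1 + h0 (Sum.inl x)
  · refine vanish_pull hM hB hN _ ?_ (fun s => ?_) fun g hg hgz => ?_
    · simp [sum_J, vG, rowT, pairR, Fin.sum_univ_four]
      split_ifs <;> simp <;> norm_num
    · rcases t with ⟨t, ht⟩
      rcases s with ⟨s, hs⟩
      have ht2 : t < 2 := by omega
      have hs2 : s < 2 := by omega
      interval_cases t <;> interval_cases s <;>
        simp [sum_J, vG, rowQ, pairR, pat, Fin.sum_univ_four, Fin.mk.injEq] <;> norm_num
    · obtain ⟨h0, -, -, h1, h2⟩ := hN.off g hg hgz _ fun i => rfl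
      rcases t with ⟨t, ht⟩
      have ht2 : t < 2 := by omega
      interval_cases t
      · simp [sum_J, vG, pairR, Fin.sum_univ_four]
        linear_combination h1 (by omega) + h0 (Sum.inr ⟨0, ht⟩)
      · simp [sum_J, vG, pairR, Fin.sum_univ_four]
        linear_combination h2 (by omega) + h0 (Sum.inr ⟨1, ht⟩)

/-- The family: the relations and the extra vectors on the four of height zero. -/
noncomputable def family (ch : J q e → IrrCharacter H) (sg : J q e → ℤ) {r : ℕ}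
    (Φ : Fin r → Fin 4 → ℂ) :
    Unit ⊕ (Fin (2 * q - 1) ⊕ (Fin e ⊕ Fin r)) → IrrCharacter H → ℂ :=
  Sum.elim (fun _ => pull ch sg fun i => (vE q e i : ℂ))
    (Sum.elim (fun x => pull ch sg fun i => (vF e x i : ℂ))
      (Sum.elim (fun t => pull ch sg fun i => (vG q t i : ℂ))
        fun j => pull ch sg (Sum.elim (Φ j) fun _ => 0)))

theorem exists_kernel_of_extra (hM : IsPModular 2 M) (hB : IsPBlock M b)
    (hN : Norm b σ q e ch sg κ) {r : ℕ} (Φ : Fin r → Fin 4 → ℂ)
    (hsum : ∀ j, ∑ a, Φ j a = 0) (hT : ∀ j, Φ j 0 + Φ j 1 - Φ j 2 - Φ j 3 = 0)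
    (hQ : ∀ j, ∀ t : Fin e, ∑ a, Φ j a * (pat t a : ℂ) = 0) (hind : LinearIndependent ℂ Φ)
    (hoff : ∀ j, ∀ g : H, 2 ∣ orderOf g → σ ^ (2 * q) ∉ Subgroup.zpowers g →
      ∑ a, Φ j a * ((sg (Sum.inl a) : ℂ) * (ch (Sum.inl a) : H → ℂ) g) = 0) :
    Kernel b (σ ^ (2 * q)) q e (pull ch sg (vE q e)) (fun x => pull ch sg (vF e x))
      (fun t => pull ch sg (vG q t)) κ (family ch sg Φ) := by
  obtain ⟨hvE, hvF, hvG⟩ := vanish_basic hM hB hN
  refine ⟨hN.e_le, hN.κ_sum, hN.κ_sign, fun φ hφ => ?_, ?_, fun x => ?_, fun i => ?_,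
    fun x y => ?_, fun x i => ?_, fun i j => ?_, fun φ hφ η hη => ?_, hvE, hvF, hvG, ?_, ?_⟩
  · obtain ⟨i, rfl⟩ : φ ∈ Set.range ch := hN.range ▸ hφ
    rw [hN.height, pull_apply hN, Int.cast_id]
    rcases i with a | j
    · refine iff_of_true ?_ ⟨a, rfl⟩
      rcases hN.sign (Sum.inl a) with h | h <;> simp [h, vE]
    · simp [vE]
  · rw [sum_pull_mul hN]; simp [sum_J, vE]
  · rw [sum_pull_mul hN]; simp [sum_J, vE, vF, Fin.sum_univ_four]
  · rw [sum_pull_mul hN]
    simp [sum_J, vE, vG, pairR, Fin.sum_univ_four]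
    split_ifs <;> simp
  · rw [sum_pull_mul hN]
    by_cases hxy : x = y
    · subst hxy; simp [sum_J, vF, Fin.sum_univ_four]
    · simp [sum_J, vF, Fin.sum_univ_four, hxy, Ne.symm hxy]
  · rw [sum_pull_mul hN]
    simp [sum_J, vF, vG, pairR, Fin.sum_univ_four]
    split_ifs <;> simp
  · rw [sum_pull_mul hN]
    have he := hN.e_le
    rcases i with ⟨i, hi⟩
    rcases j with ⟨j, hj⟩
    have hi2 : i < 2 := by omega
    have hj2 : j < 2 := by omega
    interval_cases i <;> interval_cases j <;>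
      simp [sum_J, vG, pairR, Fin.sum_univ_four, Fin.mk.injEq]
  · obtain ⟨i, rfl⟩ : φ ∈ Set.range ch := hN.range ▸ hφ
    obtain ⟨j, rfl⟩ : η ∈ Set.range ch := hN.range ▸ hη
    refine ⟨zeta e κ i, zeta e κ j, hN.scal i, hN.scal j, ?_⟩
    have hcT : ∀ k, Comb.colT (pull ch sg (vE q e)) (fun x => pull ch sg (vF e x)) κ (ch k) =
        sg k * (zeta e κ k * rowT q e k) := fun k => by
      simp only [Comb.colT, pull_apply hN, Int.cast_id, zeta_rowT κ hN.κ_sum, mul_sub, mul_neg,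
        Finset.mul_sum]
      congr 1
      exact Finset.sum_congr rfl fun x _ => by ring
    have hcQ : ∀ (t : Fin e) k, Comb.colQ (pull ch sg (vE q e)) (pull ch sg (vG q t)) (ch k) =
        sg k * (zeta e κ k * rowQ q t k) := fun t k => by
      simp only [Comb.colQ, pull_apply hN, Int.cast_id, zeta_rowQ]
      ring
    simp only [Comb.form, hcT, hcQ]
    have hterm : ∑ t : Fin e, sg i * (zeta e κ i * rowQ q t i) * (sg j * (zeta e κ j * rowQ q t j))
        = sg i * sg j * (zeta e κ i * zeta e κ j) * ∑ t : Fin e, rowQ q t i * rowQ q t j := by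
      rw [Finset.mul_sum]
      exact Finset.sum_congr rfl fun t _ => by ring
    rw [hterm]
    linear_combination (zeta e κ i * zeta e κ j * sg i * sg j) * hN.formula i j -
      (zeta e κ i * zeta e κ j * scaledReg 2 b (ch i) (ch j) * (sg i * sg i)) * hN.sgsq j -
      (zeta e κ i * zeta e κ j * scaledReg 2 b (ch i) (ch j)) * hN.sgsq i
  · rintro (⟨⟩ | x | t | j)
    · simpa only [family, Sum.elim_inl, cast_pull hN] using hvE
    · simpa only [family, Sum.elim_inl, Sum.elim_inr, cast_pull hN] using hvF x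
    · simpa only [family, Sum.elim_inl, Sum.elim_inr, cast_pull hN] using hvG t
    · refine vanish_pull hM hB hN _ ?_ (fun t => ?_) fun g hg hgz => ?_
      · simp [sum_J, rowT, Fin.sum_univ_four]
        linear_combination hT j
      · simpa [sum_J, rowQ] using hQ j t
      · simpa [sum_J] using hoff j g hg hgz
  · intro a ha
    have hpt : ∀ i, a (Sum.inl ()) * (vE q e i : ℂ) +
        (∑ x, a (Sum.inr (Sum.inl x)) * (vF e x i : ℂ) +
          (∑ t, a (Sum.inr (Sum.inr (Sum.inl t))) * (vG q t i : ℂ) +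
            ∑ j, a (Sum.inr (Sum.inr (Sum.inr j))) *
              Sum.elim (Φ j) (fun _ => (0 : ℂ)) i)) = 0 := by
      intro i
      have h := ha (ch i) (hN.mem i)
      simp only [family, Fintype.sum_sum_type, Fintype.sum_unique, Sum.elim_inl, Sum.elim_inr,
        pull_apply hN] at h
      have hs : (sg i : ℂ) * (sg i : ℂ) = 1 := by exact_mod_cast hN.sgsq i
      simp only [mul_left_comm _ (sg i : ℂ), ← Finset.mul_sum, ← mul_add] at h
      exact (mul_eq_zero.1 h).resolve_left fun h0 => by rw [h0, zero_mul] at hs; exact zero_ne_one hs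
    have hf : ∀ x, a (Sum.inr (Sum.inl x)) = 0 := fun x => by
      simpa [vE, vF, vG] using hpt (Sum.inr (Sum.inl x))
    have hg' : ∀ t, a (Sum.inr (Sum.inr (Sum.inl t))) = 0 := fun t => by
      simpa [vE, vF, vG] using hpt (Sum.inr (Sum.inr t))
    have hF : ∀ k, a (Sum.inl ()) + ∑ j, a (Sum.inr (Sum.inr (Sum.inr j))) * Φ j k = 0 := fun k => by
      simpa [vE, hf, hg'] using hpt (Sum.inl k)
    have hE : a (Sum.inl ()) = 0 := by
      have h : ∑ k : Fin 4, (a (Sum.inl ()) + ∑ j, a (Sum.inr (Sum.inr (Sum.inr j))) * Φ j k) = 0 :=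
        Finset.sum_eq_zero fun k _ => hF k
      rw [Finset.sum_add_distrib, Finset.sum_comm,
        Finset.sum_eq_zero (s := (Finset.univ : Finset (Fin r))) fun j _ => by
          rw [← Finset.mul_sum, hsum, mul_zero], add_zero] at h
      simpa using h
    have hj : ∀ j, a (Sum.inr (Sum.inr (Sum.inr j))) = 0 := by
      refine Fintype.linearIndependent_iff.1 hind _ (funext fun k => ?_)
      simpa [hE, Finset.sum_apply] using hF k
    funext i
    rcases i with ⟨⟩ | x | t | j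
    · exact hE
    · exact hf x
    · exact hg' t
    · exact hj j

variable {D : Subgroup H} {σ' : H} {c : ℤ}

theorem hasUVectors (hM : IsPModular 2 M) (hB : IsPBlock M b) (hD : IsDefectGroup 2 M b D)
    {q : ℕ} (hd : TData D σ c q) (hz : ∀ g : H, g * σ ^ (2 * q) = σ ^ (2 * q) * g) :
    HasUVectors b σ q := by
  obtain ⟨E, v, s₀, hs, hoff, hE4, hodd, hEz, hvz, hsupp, hind⟩ :=
    H22.TameU.exists_uVectors hM hB hD hd hz
  refine ⟨E, v, s₀, hs, hoff, hE4, hodd, hEz, hvz, fun g hg => ?_, hind⟩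
  obtain ⟨h1, h2⟩ := hsupp g (Or.inr hg)
  refine ⟨?_, fun i => ?_⟩
  · rw [← h1]
    exact Finset.sum_subset (Finset.subset_univ _) fun χ _ hχ => by
      rw [(hoff χ fun h => hχ (mem_blockFinset.2 h)).1, Int.cast_zero, zero_mul]
  · rw [← h2 i]
    exact Finset.sum_subset (Finset.subset_univ _) fun χ _ hχ => by
      rw [(hoff χ fun h => hχ (mem_blockFinset.2 h)).2 i, zero_mul]

/-- A member of height zero is nonzero at some singular element avoiding `z`. -/
theorem exists_outer_ne_zero (hM : IsPModular 2 M) (hB : IsPBlock M b)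
    (hD : IsDefectGroup 2 M b D) {q : ℕ} (hd : TData D σ c q) (hsd : hd.IsSD)
    (hz : ∀ g : H, g * σ ^ (2 * q) = σ ^ (2 * q) * g) {χ : IrrCharacter H} (hχ : χ ∈ b)
    (h0 : blockHeight 2 b (χ : H → ℂ) = 0) :
    ∃ g : H, 2 ∣ orderOf g ∧ σ ^ (2 * q) ∉ Subgroup.zpowers g ∧ (χ : H → ℂ) g ≠ 0 := by
  haveI : M.IsMaximal := hM.2.1
  haveI := H41.IsPModular.charP hM
  obtain ⟨τ, hτ, hτA, hτ2⟩ := hsd.2.2
  set z := σ ^ (2 * q) with hzdef
  have hzA : z ∈ Subgroup.zpowers σ := Subgroup.pow_mem _ (Subgroup.mem_zpowers σ) _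
  have hτo : orderOf τ = 2 :=
    orderOf_eq_prime (by rw [pow_two, hτ2]) fun e => hτA (e ▸ one_mem _)
  obtain ⟨ee, hm⟩ := H40.NilpotentBlocks.exists_isMaxEl_of_defect hM hB hD
  have hcl : ∀ g : H, g * τ * g⁻¹ ∈ D → ∃ d ∈ D, d * τ * d⁻¹ = g * τ * g⁻¹ := by
    intro g hg
    have ho : orderOf (g * τ * g⁻¹) = 2 := by
      rw [← MulAut.conj_apply, MulEquiv.orderOf_eq]; exact hτo
    refine hd.exists_conj_involution hsd hτ hτA hτ2 hg (fun hA => hτA ?_) ?_
    · have h1 : g * τ * g⁻¹ = z :=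
        H22.TICore.eq_of_mem_zpowers (g := σ) hd.orderOf_z ho hzA hA
      have h2 : τ = z := by
        rw [mul_inv_eq_iff_eq_mul, ← hz g] at h1
        exact mul_left_cancel h1
      exact h2 ▸ hzA
    · rw [← pow_two, ← ho]; exact pow_orderOf_eq_one _
  obtain ⟨cb, hcb, hcar, hbel⟩ := H22.exists_carried_block hB hm hτ
  obtain ⟨y, hy, hne⟩ := H22.exists_blockPart_sec_ne_zero_of_height_zero hM hB hχ h0 (j := 1)
    (by rw [pow_one]; exact hτo) hcb hbel
  have hval : (χ : H → ℂ) (τ * (y : H)) = blockPart cb (sec τ (χ : H → ℂ)) y := by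
    rw [← H22.sum_blockPart_sec (M := M) (H26.irr_isClassFunction χ) y]
    refine Finset.sum_eq_single cb (fun b' hb' hne' => ?_)
      fun h => absurd (H22.mem_blocksOf.2 hcb) h
    by_contra hn
    refine hne' (carried_unique hM hB hm ⟨1, by rw [pow_one]; exact hτo⟩ hcl hcb hcar ?_)
    refine H22.isInducedBlock_of_below hM hB (j := 1) (by rw [pow_one]; exact hτo)
      (H22.mem_blocksOf.1 hb') ?_
    by_contra hbel'
    exact hn (H22.blockPart_sec_eq_zero_of_not_below hM hB hχ (j := 1)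
      (by rw [pow_one]; exact hτo) (H22.mem_blocksOf.1 hb') hbel' hy)
  have hpp : pp 2 (τ * (y : H)) = τ := pp_eq ⟨(y : H), rfl, by
      have h : (y : H) ∈ Subgroup.centralizer (Subgroup.zpowers τ : Set H) := y.2
      rw [H40.centralizer_zpowers_eq, Subgroup.mem_centralizer_singleton_iff] at h
      exact h.symm, ⟨1, by rw [pow_one]; exact hτo⟩,
    by rwa [Subgroup.orderOf_coe]⟩
  refine ⟨τ * (y : H), ?_, fun hzm => ?_, by rw [hval]; exact hne⟩
  · have h1 : τ ∈ Subgroup.zpowers (τ * (y : H)) := by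
      have h1 : pp 2 (τ * (y : H)) ∈ Subgroup.zpowers (τ * (y : H)) := by
        rw [pp, ← zpow_natCast]
        exact Subgroup.zpow_mem _ (Subgroup.mem_zpowers _) _
      rwa [hpp] at h1
    have := orderOf_dvd_of_mem_zpowers h1
    rwa [hτo] at this
  · have h2 := zpowers_pp_of_ppow (p := 2) ⟨1, by rw [pow_one]; exact hd.orderOf_z⟩ hzm
    rw [hpp] at h2
    exact hτA (H22.TICore.eq_of_mem_zpowers (g := τ) hd.orderOf_z hτo h2
      (Subgroup.mem_zpowers τ) ▸ hzA)

/-- In the quaternion case the members vanish at the singular elements avoiding `z`. -/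
theorem apply_eq_zero_of_isQ (hM : IsPModular 2 M) (hB : IsPBlock M b)
    (hD : IsDefectGroup 2 M b D) {q : ℕ} (hd : TData D σ c q) (hQ : hd.IsQ)
    (hz : ∀ g : H, g * σ ^ (2 * q) = σ ^ (2 * q) * g) {χ : IrrCharacter H} (hχ : χ ∈ b) {g : H}
    (hg : 2 ∣ orderOf g) (hgz : σ ^ (2 * q) ∉ Subgroup.zpowers g) : (χ : H → ℂ) g = 0 := by
  haveI : M.IsMaximal := hM.2.1
  haveI := H41.IsPModular.charP hM
  by_contra hne
  obtain ⟨x, hx⟩ := exists_conj_pp_mem hM hB hD hχ hne
  obtain ⟨y₀, hy₀, -, ⟨i, hi⟩, hreg⟩ := H22.isPPart_pp 2 g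
  set v := x * pp 2 g * x⁻¹ with hv
  have hvo : orderOf v = 2 ^ i := by rw [hv, ← MulAut.conj_apply, MulEquiv.orderOf_eq, hi]
  rcases i with - | i
  · have h1 : pp 2 g = 1 := orderOf_eq_one_iff.1 (by rw [hi, pow_zero])
    rw [h1, one_mul] at hy₀
    exact hreg (hy₀ ▸ hg)
  have hzA : σ ^ (2 * q) ∈ Subgroup.zpowers σ :=
    Subgroup.pow_mem _ (Subgroup.mem_zpowers σ) _
  have hzv : σ ^ (2 * q) ∈ Subgroup.zpowers v := by
    by_cases hvA : v ∈ Subgroup.zpowers σ
    · have ho : orderOf (v ^ 2 ^ i) = 2 := by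
        rw [orderOf_pow' _ (pow_ne_zero _ two_ne_zero), hvo,
          Nat.gcd_eq_right (pow_dvd_pow 2 (Nat.le_succ i)), pow_succ,
          Nat.mul_div_cancel_left _ (Nat.two_pow_pos i)]
      rw [← H22.TICore.eq_of_mem_zpowers (g := σ) hd.orderOf_z ho hzA (Subgroup.pow_mem _ hvA _)]
      exact Subgroup.pow_mem _ (Subgroup.mem_zpowers v) _
    · rw [← hQ v hx hvA]
      exact Subgroup.mul_mem _ (Subgroup.mem_zpowers v) (Subgroup.mem_zpowers v)
  obtain ⟨j, hj⟩ := hzv
  change v ^ j = σ ^ (2 * q) at hj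
  rw [hv, conj_zpow, mul_inv_eq_iff_eq_mul, ← hz x] at hj
  refine hgz ?_
  rw [← mul_left_cancel hj, pp, ← zpow_natCast, ← zpow_mul]
  exact Subgroup.zpow_mem _ (Subgroup.mem_zpowers g) _

/-- Semidihedral: at most one further column, and `2 q + 1` independent relations. -/
theorem exists_kernel_sd (hM : IsPModular 2 M) (hB : IsPBlock M b)
    (hD : IsDefectGroup 2 M b D) {q : ℕ} (hd : TData D σ c q) (hsd : hd.IsSD)
    (hz : ∀ g : H, g * σ ^ (2 * q) = σ ^ (2 * q) * g) :
    ∃ (e r : ℕ) (E : IrrCharacter H → ℤ) (f : Fin (2 * q - 1) → IrrCharacter H → ℤ)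
      (g : Fin e → IrrCharacter H → ℤ) (κ : Fin (2 * q - 1) → ℤ)
      (fam : Unit ⊕ (Fin (2 * q - 1) ⊕ (Fin e ⊕ Fin r)) → IrrCharacter H → ℂ),
      e ≤ 1 ∧ e + r = 1 ∧ Kernel b (σ ^ (2 * q)) q e E f g κ fam := by
  haveI : M.IsMaximal := hM.2.1
  haveI := H41.IsPModular.charP hM
  obtain ⟨e, ch, sg, κ, hN⟩ := exists_norm hM hB hD hd hz (hasUVectors hM hB hD hd hz)
  have he1 : e ≤ 1 := by
    by_contra hcon
    have he : e = 2 := by have := hN.e_le; omega
    obtain ⟨g, hg, hgz, hne⟩ := exists_outer_ne_zero hM hB hD hd hsd hz (hN.mem (Sum.inl 0))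
      ((hN.height _).2 ⟨0, rfl⟩)
    obtain ⟨-, h1, h2, h3, h4⟩ := hN.off g hg hgz _ fun i => rfl
    have hA : (sg (Sum.inl 0) : ℂ) * (ch (Sum.inl 0) : H → ℂ) g = 0 := by
      linear_combination (1 / 2 : ℂ) * h3 (by omega) + (1 / 2 : ℂ) * h4 he - (1 / 2 : ℂ) * h2
    rcases hN.sign (Sum.inl 0) with h | h <;> simp [h] at hA <;> exact hne hA
  rcases (show e = 0 ∨ e = 1 by omega) with rfl | rfl
  · obtain ⟨lam, hlam⟩ := exists_column_vector hM hB hD hd hsd hz
    set L : Fin 4 → ℂ := fun a => (sg (Sum.inl a) : ℂ) * lam (ch (Sum.inl a))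
    obtain ⟨x, y, hxy, hxy0⟩ : ∃ x y : ℂ, x * (L 0 - L 1) + y * (L 2 - L 3) = 0 ∧
        ¬ (x = 0 ∧ y = 0) := by
      by_cases h : L 2 - L 3 = 0 ∧ L 0 - L 1 = 0
      · exact ⟨1, 0, by rw [h.1, h.2]; ring, by simp⟩
      · exact ⟨L 2 - L 3, -(L 0 - L 1), by ring, fun h' => h ⟨h'.1, neg_eq_zero.1 h'.2⟩⟩
    refine ⟨0, 1, _, _, _, _, _, le_rfl.trans (Nat.zero_le 1), rfl,
      exists_kernel_of_extra hM hB hN (fun _ : Fin 1 => ![x, -x, y, -y]) (fun _ => ?_) (fun _ => ?_)
        (fun _ t => t.elim0) ?_ fun _ g hg hgz => ?_⟩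
    · simp [Fin.sum_univ_four]
    · simp
    · rw [Fintype.linearIndependent_iff]
      intro a ha i
      rw [Subsingleton.elim i 0]
      by_contra h
      have h0 := congrFun ha 0
      have h2 := congrFun ha 2
      simp [h] at h0 h2
      exact hxy0 ⟨h0, h2⟩
    · obtain ⟨s, hs⟩ := hlam g hg hgz
      simp [Fin.sum_univ_four, hs _ (hN.mem _)]
      linear_combination s * hxy
  · refine ⟨1, 0, _, _, _, _, _, le_rfl, rfl,
      exists_kernel_of_extra hM hB hN (fun j : Fin 0 => j.elim0) (fun j => j.elim0)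
        (fun j => j.elim0) (fun j => j.elim0) linearIndependent_empty_type fun j => j.elim0⟩

/-- Quaternion: `2 q + 2` independent relations spanning all. -/
theorem exists_kernel_q (hM : IsPModular 2 M) (hB : IsPBlock M b)
    (hD : IsDefectGroup 2 M b D) {q : ℕ} (hd : TData D σ c q) (hQ : hd.IsQ)
    (hz : ∀ g : H, g * σ ^ (2 * q) = σ ^ (2 * q) * g) :
    ∃ (e r : ℕ) (E : IrrCharacter H → ℤ) (f : Fin (2 * q - 1) → IrrCharacter H → ℤ)
      (g : Fin e → IrrCharacter H → ℤ) (κ : Fin (2 * q - 1) → ℤ)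
      (fam : Unit ⊕ (Fin (2 * q - 1) ⊕ (Fin e ⊕ Fin r)) → IrrCharacter H → ℂ),
      e + r = 2 ∧ Kernel b (σ ^ (2 * q)) q e E f g κ fam ∧
      ∀ k : IrrCharacter H → ℂ,
        (∀ x : H, ¬ 2 ∣ orderOf x → ∑ φ ∈ blockFinset b, k φ * (φ : H → ℂ) x = 0) →
        ∃ a : Unit ⊕ (Fin (2 * q - 1) ⊕ (Fin e ⊕ Fin r)) → ℂ,
          ∀ φ ∈ b, k φ = ∑ j, a j * fam j φ := by
  obtain ⟨e, ch, sg, κ, hN⟩ := exists_norm hM hB hD hd hz (hasUVectors hM hB hD hd hz)
  have hqpos := hd.q_pos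
  have he := hN.e_le
  let Φ : Fin (2 - e) → Fin 4 → ℂ := fun j =>
    if e = 0 then (if (j : ℕ) = 0 then ![1, -1, 0, 0] else ![0, 0, 1, -1]) else ![1, -1, -1, 1]
  have hK := exists_kernel_of_extra hM hB hN Φ (fun j => ?_) (fun j => ?_) (fun j t => ?_) ?_
    fun j g hg hgz => ?_
  rotate_left
  · simp only [Φ]; split_ifs <;> simp [Fin.sum_univ_four]
  · simp only [Φ]; split_ifs <;> simp
  · have ht : t.val = 0 := by have := j.2; have := t.2; omega
    have he0 : e ≠ 0 := by have := t.2; omega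
    simp [Φ, he0, pat, ht, Fin.sum_univ_four]
  · rw [Fintype.linearIndependent_iff]
    intro a ha
    rcases (show e = 0 ∨ e = 1 ∨ e = 2 by omega) with h | h | h
    · subst h
      rw [Fin.sum_univ_two] at ha
      have h0 := congrFun ha 0
      have h2 := congrFun ha 2
      simp [Φ] at h0 h2
      intro i
      fin_cases i
      · exact h0
      · exact h2
    · subst h
      rw [Fin.sum_univ_one] at ha
      have h0 := congrFun ha 0
      simp [Φ] at h0
      intro i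
      fin_cases i
      exact h0
    · subst h
      exact fun i => i.elim0
  · exact Finset.sum_eq_zero fun a _ => by
      rw [apply_eq_zero_of_isQ hM hB hD hd hQ hz (hN.mem _) hg hgz, mul_zero, mul_zero]
  refine ⟨e, 2 - e, _, _, _, _, _, by omega, hK, fun k hk => ?_⟩
  set kJ : J q e → ℂ := fun i => (sg i : ℂ) * k (ch i) with hkJ
  have hs : ∀ i, (sg i : ℂ) * (sg i : ℂ) = 1 := fun i => by exact_mod_cast hN.sgsq i
  have hcol : ∀ j, (q : ℂ) * ∑ t : Fin e, (∑ i, kJ i * (rowQ q t i : ℂ)) * (rowQ q t j : ℂ) +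
      (∑ i, kJ i * (rowT q e i : ℂ)) * (rowT q e j : ℂ) = 0 := by
    intro j
    calc (q : ℂ) * ∑ t : Fin e, (∑ i, kJ i * (rowQ q t i : ℂ)) * (rowQ q t j : ℂ) +
          (∑ i, kJ i * (rowT q e i : ℂ)) * (rowT q e j : ℂ)
        = ∑ i, kJ i * ((q : ℂ) * ∑ t : Fin e, (rowQ q t i : ℂ) * (rowQ q t j : ℂ) +
            (rowT q e i : ℂ) * (rowT q e j : ℂ)) := by
          simp only [Finset.sum_mul, Finset.mul_sum, mul_add, Finset.sum_add_distrib]
          congr 1
          · rw [Finset.sum_comm]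
            exact Finset.sum_congr rfl fun i _ => Finset.sum_congr rfl fun t _ => by ring
          · exact Finset.sum_congr rfl fun i _ => by ring
      _ = (sg j : ℂ) * ∑ φ ∈ blockFinset b, k φ * (scaledReg 2 b φ (ch j) : ℂ) := by
          rw [hN.sum_eq, Finset.mul_sum]
          refine Finset.sum_congr rfl fun i _ => ?_
          have h := congrArg (fun n : ℤ => (n : ℂ)) (hN.formula i j)
          push_cast at h
          rw [← h]
          simp only [hkJ]
          linear_combination ((sg j : ℂ) * k (ch i) * (scaledReg 2 b (ch i) (ch j) : ℂ)) * hs i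
      _ = 0 := by rw [sum_mul_scaledReg_eq_zero hM hB hk, mul_zero]
  -- both sums vanish
  have hpair : ∀ w : J q e → ℂ,
      (q : ℂ) * ∑ t : Fin e, (∑ i, kJ i * (rowQ q t i : ℂ)) * ∑ j, w j * (rowQ q t j : ℂ) +
        (∑ i, kJ i * (rowT q e i : ℂ)) * ∑ j, w j * (rowT q e j : ℂ) = 0 := by
    intro w
    have h : ∑ j, w j * ((q : ℂ) * ∑ t : Fin e, (∑ i, kJ i * (rowQ q t i : ℂ)) * (rowQ q t j : ℂ) +
        (∑ i, kJ i * (rowT q e i : ℂ)) * (rowT q e j : ℂ)) = 0 :=
      Finset.sum_eq_zero fun j _ => by rw [hcol, mul_zero]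
    rw [← h]
    simp only [mul_add, Finset.sum_add_distrib, Finset.mul_sum]
    congr 1
    · rw [Finset.sum_comm]
      exact Finset.sum_congr rfl fun j _ => Finset.sum_congr rfl fun t _ => by ring
    · exact Finset.sum_congr rfl fun j _ => by ring
  have hq2 : ((2 * q - 1 : ℕ) : ℂ) = 2 * (q : ℂ) - 1 := by
    rw [Nat.cast_sub (by omega)]; push_cast; ring
  have hT0 : ∑ i, kJ i * (rowT q e i : ℂ) = 0 := by
    have h := hpair fun j => (rowT q e j : ℂ)
    have h1 : ∀ t : Fin e, ∑ j, (rowT q e j : ℂ) * (rowQ q t j : ℂ) = 0 := fun t => by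
      simp [sum_J, rowT, rowQ, pat]
      split_ifs <;> simp [Fin.sum_univ_four]
    have h2 : ∑ j, (rowT q e j : ℂ) * (rowT q e j : ℂ) = 8 * (q : ℂ) := by
      simp [sum_J, rowT, Fin.sum_univ_four, hq2]
      ring
    simpa [h1, h2, hqpos.ne'] using h
  have hQ0 : ∀ s : Fin e, ∑ i, kJ i * (rowQ q s i : ℂ) = 0 := by
    intro s
    have h := hpair fun j => (rowQ q s j : ℂ)
    have h2 : ∀ t : Fin e,
        ∑ j, (rowQ q s j : ℂ) * (rowQ q t j : ℂ) = if t = s then 8 else 0 := fun t => by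
      rcases t with ⟨t, ht⟩
      rcases s with ⟨s, hs'⟩
      have ht2 : t < 2 := by omega
      have hs2 : s < 2 := by omega
      interval_cases t <;> interval_cases s <;>
        simp [sum_J, rowQ, pat, Fin.sum_univ_four, Fin.mk.injEq] <;> norm_num
    simpa [hT0, h2, hqpos.ne'] using h
  -- decomposition
  let rest : Fin 4 → ℂ := fun a => kJ (Sum.inl a) -
    (∑ x, kJ (Sum.inr (Sum.inl x)) * ((![1, 1, 0, 0] : Fin 4 → ℤ) a : ℂ) +
      ∑ t, kJ (Sum.inr (Sum.inr t)) * (pairR t a : ℂ))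
  have hrT : rest 0 + rest 1 - rest 2 - rest 3 = 0 := by
    rw [← hT0]
    simp [rest, sum_J, rowT, pairR, Fin.sum_univ_four]
    rcases (show e = 0 ∨ e = 1 ∨ e = 2 by omega) with h | h | h <;> subst h <;>
      simp [Fin.sum_univ_two, ← Finset.sum_mul] <;> ring
  have hrQ : ∀ t : Fin e, ∑ a, rest a * (pat t a : ℂ) = 0 := by
    intro t
    rw [← hQ0 t]
    rcases (show e = 0 ∨ e = 1 ∨ e = 2 by omega) with h | h | h <;> subst h
    · exact t.elim0
    · fin_cases t
      simp [rest, sum_J, rowQ, pat, pairR, Fin.sum_univ_four]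
      ring
    · fin_cases t <;>
        simp [rest, sum_J, rowQ, pat, pairR, Fin.sum_univ_four, Fin.sum_univ_two] <;> ring
  let aΦ : Fin (2 - e) → ℂ := fun j =>
    if (j : ℕ) = 0 then (rest 0 - rest 1) / 2 else (rest 2 - rest 3) / 2
  refine ⟨Sum.elim (fun _ => (rest 0 + rest 1) / 2) (Sum.elim (fun x => kJ (Sum.inr (Sum.inl x)))
    (Sum.elim (fun t => kJ (Sum.inr (Sum.inr t))) aΦ)), fun φ hφ => ?_⟩
  obtain ⟨i, rfl⟩ : φ ∈ Set.range ch := hN.range ▸ hφ
  have hk' : k (ch i) = (sg i : ℂ) * kJ i := by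
    simp only [hkJ]
    linear_combination (-k (ch i)) * hs i
  simp only [family, Fintype.sum_sum_type, Fintype.sum_unique, Sum.elim_inl, Sum.elim_inr,
    pull_apply hN, mul_left_comm _ (sg i : ℂ), ← Finset.mul_sum, ← mul_add, hk']
  congr 1
  rcases i with a | x | t
  · simp only [vE, vF, vG, Sum.elim_inl]
    have hka : kJ (Sum.inl a) = rest a + (∑ x, kJ (Sum.inr (Sum.inl x)) * ((![1, 1, 0, 0] : Fin 4 → ℤ) a : ℂ) +
        ∑ t, kJ (Sum.inr (Sum.inr t)) * (pairR t a : ℂ)) := by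
      simp only [rest]; ring
    rw [hka, Int.cast_one, mul_one]
    have hr : rest a = (rest 0 + rest 1) / 2 + ∑ j, aΦ j * Φ j a := by
      rcases (show e = 0 ∨ e = 1 ∨ e = 2 by omega) with h | h | h <;> subst h
      · rw [Fin.sum_univ_two]
        fin_cases a <;> simp [aΦ, Φ]
        · ring
        · ring
        · linear_combination (-1 / 2 : ℂ) * hrT
        · linear_combination (-1 / 2 : ℂ) * hrT
      · have h1 := hrQ 0
        simp [pat, Fin.sum_univ_four] at h1
        rw [Fin.sum_univ_one]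
        fin_cases a <;> simp [aΦ, Φ]
        · ring
        · ring
        · linear_combination (-1 / 2 : ℂ) * hrT + (1 / 2 : ℂ) * h1
        · linear_combination (-1 / 2 : ℂ) * hrT - (1 / 2 : ℂ) * h1
      · have h1 := hrQ 0
        have h2 := hrQ 1
        simp [pat, Fin.sum_univ_four] at h1 h2
        rw [Finset.sum_eq_zero fun (j : Fin (2 - 2)) _ => absurd j.2 (by omega), add_zero]
        fin_cases a <;> simp
        · linear_combination (1 / 4 : ℂ) * h1 + (1 / 4 : ℂ) * h2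
        · linear_combination (-1 / 4 : ℂ) * h1 + (-1 / 4 : ℂ) * h2
        · linear_combination (-1 / 2 : ℂ) * hrT + (1 / 4 : ℂ) * h1 - (1 / 4 : ℂ) * h2
        · linear_combination (-1 / 2 : ℂ) * hrT - (1 / 4 : ℂ) * h1 + (1 / 4 : ℂ) * h2
    rw [hr]
    ring
  · simp [vE, vF, vG]
  · simp [vE, vF, vG]

end Cfsg.Agent.H40.Tame
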