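import Cfsg.Agent.H40.Tame.Kernel
import Cfsg.Agent.H56.SubsectionMajor
import Cfsg.Agent.H23.OneSubsection

/-!
# The invariants of blocks with semidihedral or generalized quaternion defect group

The relations of the block at the central involution are induced to the group; their Gram matrix
and the exact contributions determine the number of members, their heights and bounds for the
regular rank.
-/

set_option autoImplicit false
set_option linter.unusedSectionVars false
set_option linter.style.haveILetI false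

open scoped ComplexConjugate Classical

namespace Cfsg.Agent.H40.Tame

open Cfsg
open Cfsg.Agent.H42 (regRes blockFinset mem_blockFinset)
open Cfsg.Agent.H32 (scaledReg scaledDeg minVal)
open Cfsg.Agent.H22 (CZ IsMaxEl el pp)
open Cfsg.Agent.H56.Subsec (mult cont mem' yC scal)
open Cfsg.Agent.H41 (ResField)

universe v

variable {G : Type v} [Group G] [Fintype G]

theorem dvd_scaledDeg_of_pos {H : Type*} [Group H] [Fintype H] [Fact (Nat.Prime 2)]
    {M : Ideal AlgInt} {b : Set (IrrCharacter H)} (hM : IsPModular 2 M) (hb : IsPBlock M b)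
    {φ : IrrCharacter H} (hφ : φ ∈ b) (h0 : blockHeight 2 b (φ : H → ℂ) ≠ 0) :
    (2 : ℤ) ∣ scaledDeg 2 b φ := by
  have := hM.2.1
  have h1 := H42.factorization_degree_add_defect (p := 2) hb hφ
  have h2 := H22.TameRows.minVal_add_defect hM hb
  have h3 : (2 : ℤ) ^ (minVal 2 b + 1) ∣ (charDegree (φ : H → ℂ) : ℤ) :=
    (pow_dvd_pow _ (show minVal 2 b + 1 ≤ (charDegree (φ : H → ℂ)).factorization 2 by omega)).trans
      (by exact_mod_cast Nat.ordProj_dvd (charDegree (φ : H → ℂ)) 2)
  rw [← H32.scaledDeg_mul (p := 2) hφ, pow_succ'] at h3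
  exact (mul_dvd_mul_iff_right (pow_ne_zero _ (two_ne_zero : (2 : ℤ) ≠ 0))).1 h3

/-- The class functions of the block at `u`. -/
noncomputable def kfun {u : G} (b : Set (IrrCharacter (CZ u))) (k : IrrCharacter (CZ u) → ℂ) :
    CZ u → ℂ :=
  fun x => ∑ φ ∈ blockFinset b, k φ * (φ : CZ u → ℂ) x

/-- The coefficients of the induced function. -/
noncomputable def img {u : G} (b : Set (IrrCharacter (CZ u))) (k : IrrCharacter (CZ u) → ℂ)
    (χ : IrrCharacter G) : ℂ :=
  ∑ φ ∈ blockFinset b, k φ * (mult u χ φ : ℂ)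

/-- Its integral version. -/
noncomputable def imgZ {u : G} (b : Set (IrrCharacter (CZ u))) (k : IrrCharacter (CZ u) → ℤ)
    (χ : IrrCharacter G) : ℤ :=
  ∑ φ ∈ blockFinset b, k φ * (mult u χ φ : ℤ)

theorem cast_imgZ {u : G} (b : Set (IrrCharacter (CZ u))) (k : IrrCharacter (CZ u) → ℤ)
    (χ : IrrCharacter G) : (imgZ b k χ : ℂ) = img b (fun φ => (k φ : ℂ)) χ := by
  simp [imgZ, img]

theorem kfun_eq {u : G} (b : Set (IrrCharacter (CZ u))) (k : IrrCharacter (CZ u) → ℂ) :
    kfun b k = ∑ φ ∈ blockFinset b, k φ • (φ : CZ u → ℂ) := by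
  funext x
  simp [kfun, Finset.sum_apply]

theorem classInner_kfun_irr {u : G} (b : Set (IrrCharacter (CZ u)))
    (k : IrrCharacter (CZ u) → ℂ) (φ : IrrCharacter (CZ u)) :
    classInner (kfun b k) (φ : CZ u → ℂ) = if φ ∈ b then k φ else 0 := by
  rw [kfun_eq, H26.classInner_sum_left]
  simp [H26.classInner_smul_left, H26.classInner_irr, Finset.sum_ite_eq', mem_blockFinset]

theorem classInner_kfun {u : G} (b : Set (IrrCharacter (CZ u)))
    (k k' : IrrCharacter (CZ u) → ℂ) :
    classInner (kfun b k) (kfun b k') = ∑ φ ∈ blockFinset b, k φ * conj (k' φ) := by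
  conv_lhs => arg 2; rw [kfun_eq]
  rw [H26.classInner_sum_right]
  refine Finset.sum_congr rfl fun φ hφ => ?_
  rw [H26.classInner_smul_right, classInner_kfun_irr, if_pos (mem_blockFinset.1 hφ), mul_comm]

theorem coef_kfun {u : G} (b : Set (IrrCharacter (CZ u))) (k : IrrCharacter (CZ u) → ℂ)
    (χ : IrrCharacter G) : coef (CZ u) (kfun b k) χ = img b k χ := by
  rw [coef, kfun_eq, H26.classInner_sum_left, img]
  refine Finset.sum_congr rfl fun φ _ => ?_
  rw [H26.classInner_smul_left, H26.classInner_comm, H56.Subsec.classInner_mult, map_natCast]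

theorem kfun_sum {u : G} {ι : Type*} [Fintype ι] (b : Set (IrrCharacter (CZ u))) (a : ι → ℂ)
    (fam : ι → IrrCharacter (CZ u) → ℂ) (χ : IrrCharacter G) :
    ∑ j, a j * img b (fam j) χ = img b (fun φ => ∑ j, a j * fam j φ) χ := by
  simp only [img, Finset.mul_sum, Finset.sum_mul]
  rw [Finset.sum_comm]
  exact Finset.sum_congr rfl fun φ _ => Finset.sum_congr rfl fun j _ => by ring

section Setting

variable [Fact (Nat.Prime 2)] {M : Ideal AlgInt} {B : Set (IrrCharacter G)} {u : G}
  {b : Set (IrrCharacter (CZ u))}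

/-- Off the block a restriction has no part at the elements having `u` as a power. -/
theorem TISet.blockPart_eq_zero {K : Subgroup G} {c : Set (IrrCharacter K)}
    (S : TISet 2 M B K u c) {χ : IrrCharacter G} (hχ : χ ∉ B) {k : K}
    (hk : u ∈ Subgroup.zpowers (k : G)) :
    blockPart c (fun k : K => (χ : G → ℂ) k) k = 0 := by
  have := S.hM.2.1
  have := H41.IsPModular.charP S.hM
  have hres : IsClassFunction K (fun k : K => (χ : G → ℂ) k) :=
    H26.isClassFunction_of_isCharacter (H26.isCharacter_comp (H26.irr_isCharacter χ) K.subtype)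
  rw [H40.blockPart_eq_sum c hres k,
    show ∑ h : K, blockCoeff c h * (χ : G → ℂ) ((h * k : K) : G) =
      ∑ h : K, blockCoeff c h * (χ : G → ℂ) ((h : G) * (k : G)) from rfl,
    H40.sum_blockCoeff_mul_eq_zero S.hM (H40.blockClosed_of_isPBlock S.ind.1)
      (H40.blockClosed_of_isPBlock S.ind.2.1) (fun ψ hψ => ?_) (fun w hw => ?_) hχ]
  · obtain ⟨χ', hχ'⟩ := H41.IsPBlock.nonempty S.ind.2.1
    rw [H40.omegaBar_restrictZ_of_isInducedBlock S.ind hψ hχ', H40.omegaBar_setLocIdem,
      if_pos hχ']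
  · rw [← H22.pp_eq hw]
    intro x hx
    refine S.cent ?_
    rw [Subgroup.mem_centralizer_singleton_iff] at hx ⊢
    obtain ⟨i, hi⟩ := zpowers_pp_of_ppow S.ppow hk
    rw [← hi]
    exact ((show Commute x (pp 2 (k : G)) from hx).zpow_right i).eq

/-- The centraliser of an involution controls the elements having it as a power. -/
theorem tiSet_involution (hM : IsPModular 2 M) (hu : orderOf u = 2)
    (hind : IsInducedBlock M (CZ u) b B) : TISet 2 M B (CZ u) u b where
  hM := hM
  ind := hind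
  ppow := ⟨1, by rw [pow_one]; exact hu⟩
  ne_one := fun h => by rw [h, orderOf_one] at hu; omega
  cent := by rw [← H40.centralizer_zpowers_eq]
  ti := fun g x hg hx => by
    show x ∈ Subgroup.centralizer (Subgroup.zpowers u : Set G)
    rw [H40.centralizer_zpowers_eq, Subgroup.mem_centralizer_singleton_iff]
    obtain ⟨i, hi⟩ := hg
    have h1 : x * u * x⁻¹ ∈ Subgroup.zpowers (x * g * x⁻¹) := by
      refine ⟨i, ?_⟩
      show (x * g * x⁻¹) ^ i = _
      rw [conj_zpow, show g ^ i = u from hi]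
    have h2 := H22.TICore.eq_of_mem_zpowers (g := x * g * x⁻¹) hu
      (by rw [← MulAut.conj_apply, MulEquiv.orderOf_eq]; exact hu) hx h1
    rwa [mul_inv_eq_iff_eq_mul] at h2

theorem mem_zpowers_uK_iff {uK x : CZ u} (huK : (uK : G) = u) :
    u ∈ Subgroup.zpowers (x : G) ↔ uK ∈ Subgroup.zpowers x := by
  have h := H22.TICore.mem_zpowers_coe_iff (a := uK) (b := x)
  rwa [huK] at h

/-- A relation of the block gives a supported class function. -/
theorem supported_kfun {uK : CZ u} (huK : (uK : G) = u) {k : IrrCharacter (CZ u) → ℂ}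
    (hk : Vanish b uK k) : Supported u b (kfun b k) where
  cls := fun x y => Finset.sum_congr rfl fun φ _ => by rw [H26.irr_conj]
  span := fun φ hφ => by rw [classInner_kfun_irr, if_neg hφ]
  supp := fun x hx => hk x fun h => hx ((mem_zpowers_uK_iff huK).2 h)

variable (S : TISet 2 M B (CZ u) u b) {uK : CZ u} (huK : (uK : G) = u)

include S huK

theorem sum_img_mul {k k' : IrrCharacter (CZ u) → ℂ} (hk : Vanish b uK k) (hk' : Vanish b uK k') :
    ∑ χ ∈ blockFinset B, img b k χ * conj (img b k' χ) =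
      ∑ φ ∈ blockFinset b, k φ * conj (k' φ) := by
  simp only [← coef_kfun]
  rw [sum_coef_mul S (supported_kfun huK hk) (supported_kfun huK hk'), classInner_kfun]

theorem sum_imgZ_mul {k k' : IrrCharacter (CZ u) → ℤ} (hk : Vanish b uK fun φ => (k φ : ℂ))
    (hk' : Vanish b uK fun φ => (k' φ : ℂ)) :
    ∑ χ : blockFinset B, imgZ b k (χ : IrrCharacter G) * imgZ b k' (χ : IrrCharacter G) =
      ∑ φ ∈ blockFinset b, k φ * k' φ := by
  rw [Finset.sum_coe_sort (blockFinset B) fun χ => imgZ b k χ * imgZ b k' χ]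
  apply Int.cast_injective (α := ℂ)
  push_cast
  have h := sum_img_mul S huK hk hk'
  simp only [← cast_imgZ, map_intCast] at h
  exact h

theorem sum_img_apply {k : IrrCharacter (CZ u) → ℂ} (hk : Vanish b uK k) (g : G) :
    ∑ χ ∈ blockFinset B, img b k χ * (χ : G → ℂ) g = indFun (CZ u) (kfun b k) g := by
  simp only [← coef_kfun]
  exact sum_coef_smul S (supported_kfun huK hk) g

theorem sum_imgZ_deg {k : IrrCharacter (CZ u) → ℤ} (hk : Vanish b uK fun φ => (k φ : ℂ)) :
    ∑ χ : blockFinset B, (charDegree ((χ : IrrCharacter G) : G → ℂ) : ℤ) *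
      imgZ b k (χ : IrrCharacter G) = 0 := by
  rw [Finset.sum_coe_sort (blockFinset B) fun χ => (charDegree (χ : G → ℂ) : ℤ) * imgZ b k χ]
  apply Int.cast_injective (α := ℂ)
  push_cast
  have h := sum_img_apply S huK hk 1
  rw [indFun_eq_zero_regular S (supported_kfun huK hk)
    (by rw [orderOf_one]; exact Nat.prime_two.not_dvd_one)] at h
  rw [← h]
  refine Finset.sum_congr rfl fun χ _ => ?_
  rw [cast_imgZ, H42.irr_one_eq, mul_comm]

variable {q e : ℕ} {ι : Type} [Fintype ι] {E : IrrCharacter (CZ u) → ℤ}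
  {f : Fin (2 * q - 1) → IrrCharacter (CZ u) → ℤ} {g : Fin e → IrrCharacter (CZ u) → ℤ}
  {κ : Fin (2 * q - 1) → ℤ} {fam : ι → IrrCharacter (CZ u) → ℂ}
  (hK : Kernel b uK q e E f g κ fam)

include hK

/-- The relation map of the block. -/
noncomputable def relMap (B : Set (IrrCharacter G)) :
    ((blockFinset B) → ℂ) →ₗ[ℂ] (G → ℂ) :=
  Fintype.linearCombination ℂ fun χ : blockFinset B =>
    pRegularPart 2 ((χ : IrrCharacter G) : G → ℂ)

omit S huK hK [Fact (Nat.Prime 2)] in
theorem finrank_range_relMap (B : Set (IrrCharacter G)) :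
    Module.finrank ℂ (LinearMap.range (relMap B)) = blockRank 2 B := by
  have hset : Set.range (fun χ : blockFinset B =>
      pRegularPart 2 ((χ : IrrCharacter G) : G → ℂ)) =
      (fun χ : IrrCharacter G => pRegularPart 2 (χ : G → ℂ)) '' B := by
    ext x
    constructor
    · rintro ⟨χ, rfl⟩
      exact ⟨χ, mem_blockFinset.1 χ.2, rfl⟩
    · rintro ⟨χ, hχ, rfl⟩
      exact ⟨⟨χ, mem_blockFinset.2 hχ⟩, rfl⟩
  rw [relMap, Fintype.range_linearCombination, hset]
  rfl

/-- The images of the relations. -/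
theorem indep_img : LinearIndependent ℂ fun j => fun χ : blockFinset B =>
    img b (fam j) (χ : IrrCharacter G) := by
  rw [Fintype.linearIndependent_iff]
  intro a ha
  refine congrFun (hK.indep a ?_)
  set k : IrrCharacter (CZ u) → ℂ := fun φ => ∑ j, a j * fam j φ with hk
  have hkv : Vanish b uK k := fun x hx => by
    simp only [hk, Finset.sum_mul]
    rw [Finset.sum_comm]
    refine Finset.sum_eq_zero fun j _ => ?_
    rw [← mul_zero (a j), ← hK.vanfam j x hx, Finset.mul_sum]
    exact Finset.sum_congr rfl fun φ _ => mul_assoc _ _ _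
  have hzero : ∀ χ ∈ blockFinset B, img b k χ = 0 := fun χ hχ => by
    have h := congrFun ha ⟨χ, hχ⟩
    simp only [Finset.sum_apply, Pi.smul_apply, smul_eq_mul, Pi.zero_apply] at h
    rw [hk, ← kfun_sum]
    exact h
  have h0 : kfun b k = 0 := H56.Subsec.classInner_self_eq_zero (by
    rw [classInner_kfun, ← sum_img_mul S huK hkv hkv]
    exact Finset.sum_eq_zero fun χ hχ => by rw [hzero χ hχ, zero_mul])
  intro φ hφ
  have h := classInner_kfun_irr b k φ
  rw [if_pos hφ, h0, H26.classInner_zero_left] at h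
  exact h.symm

theorem relMap_img (j : ι) :
    relMap B (fun χ : blockFinset B => img b (fam j) (χ : IrrCharacter G)) = 0 := by
  funext x
  simp only [relMap, Fintype.linearCombination_apply, Finset.sum_apply, Pi.smul_apply,
    smul_eq_mul, Pi.zero_apply]
  by_cases hx : 2 ∣ orderOf x
  · exact Finset.sum_eq_zero fun χ _ => by
      simp [pRegularPart, IsPRegular, hx]
  · rw [Finset.sum_congr rfl fun (χ : blockFinset B) _ => show
      img b (fam j) (χ : IrrCharacter G) * pRegularPart 2 ((χ : IrrCharacter G) : G → ℂ) x =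
        img b (fam j) (χ : IrrCharacter G) * ((χ : IrrCharacter G) : G → ℂ) x by
        simp [pRegularPart, IsPRegular, hx],
      Finset.sum_coe_sort (blockFinset B) fun χ => img b (fam j) χ * (χ : G → ℂ) x,
      sum_img_apply S huK (hK.vanfam j), indFun_eq_zero_regular S (supported_kfun huK (hK.vanfam j)) hx]

/-- The independent relations bound the rank. -/
theorem rank_add_le : blockRank 2 B + Fintype.card ι ≤ Fintype.card (blockFinset B) := by
  have h1 := LinearMap.finrank_range_add_finrank_ker (relMap B)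
  rw [finrank_range_relMap, Module.finrank_fintype_fun_eq_card] at h1
  have h2 : Fintype.card ι ≤ Module.finrank ℂ (LinearMap.ker (relMap B)) := by
    refine LinearIndependent.fintype_card_le_finrank (b := fun j =>
      (⟨_, LinearMap.mem_ker.2 (relMap_img S huK hK j)⟩ : LinearMap.ker (relMap B))) ?_
    exact LinearIndependent.of_comp (LinearMap.ker (relMap B)).subtype (indep_img S huK hK)
  omega

/-- The integer data of the images. -/
theorem exists_images {a : ℕ} (ha : q = 2 ^ a) (hdef : blockDefect 2 b = blockDefect 2 B)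
    (hu : orderOf u = 2) (hcard : 2 * q + 2 ≤ Fintype.card (blockFinset B)) :
    Fintype.card (blockFinset B) = 4 + (2 * q - 1) + e ∧
      (Finset.univ.filter fun χ : blockFinset B =>
        blockHeight 2 B ((χ : IrrCharacter G) : G → ℂ) = 0).card = 4 ∧
      (1 ≤ a → (Finset.univ.filter fun χ : blockFinset B =>
        blockHeight 2 B ((χ : IrrCharacter G) : G → ℂ) = 1).card = 2 * q - 1) ∧
      ∀ χ : blockFinset B, blockHeight 2 B ((χ : IrrCharacter G) : G → ℂ) = 0 ∨
        blockHeight 2 B ((χ : IrrCharacter G) : G → ℂ) = 1 ∨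
        blockHeight 2 B ((χ : IrrCharacter G) : G → ℂ) = a + 1 := by
  haveI : M.IsMaximal := S.hM.2.1
  subst ha
  have hb := S.ind.1
  have hB := S.ind.2.1
  set E' : blockFinset B → ℤ := fun χ => imgZ b E (χ : IrrCharacter G) with hE'
  set f' : Fin (2 * 2 ^ a - 1) → blockFinset B → ℤ :=
    fun x χ => imgZ b (f x) (χ : IrrCharacter G) with hf'
  set g' : Fin e → blockFinset B → ℤ := fun i χ => imgZ b (g i) (χ : IrrCharacter G) with hg'
  refine Comb.Images.invariants (E := E') (f := f') (g := g') (κ := κ)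
    (deg := fun χ => (charDegree ((χ : IrrCharacter G) : G → ℂ) : ℤ)) ?_
  refine ⟨hK.e_le, ?_, fun x => ?_, fun i => ?_, fun x y => ?_, fun x i => ?_, fun i j => ?_,
    hK.κ_sum, hK.κ_sign, fun χ => ?_, ?_, fun χ => ?_, fun x => sum_imgZ_deg S huK (hK.vanf x),
    fun i => sum_imgZ_deg S huK (hK.vang i), fun χ₀ h0 χ => ?_, hcard⟩
  · rw [hE', sum_imgZ_mul S huK hK.vanE hK.vanE, hK.ee]
  · rw [hE', hf', sum_imgZ_mul S huK hK.vanE (hK.vanf x), hK.ef]
  · rw [hE', hg', sum_imgZ_mul S huK hK.vanE (hK.vang i), hK.eg]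
  · rw [hf', sum_imgZ_mul S huK (hK.vanf x) (hK.vanf y), hK.ff]
  · rw [hf', hg', sum_imgZ_mul S huK (hK.vanf x) (hK.vang i), hK.fg]
  · rw [hg', sum_imgZ_mul S huK (hK.vang i) (hK.vang j), hK.gg]
  · -- parity
    have hχ := mem_blockFinset.1 χ.2
    have h2 : (2 : ℤ) ∣ E' χ -
        ∑ φ ∈ Finset.univ.filter (· ∈ b), (mult u (χ : IrrCharacter G) φ : ℤ) * scaledDeg 2 b φ := by
      simp only [hE', imgZ]
      rw [show blockFinset b = Finset.univ.filter (· ∈ b) by ext; simp [mem_blockFinset],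
        ← Finset.sum_sub_distrib]
      refine Finset.dvd_sum fun φ hφ => ?_
      have hφb : φ ∈ b := (Finset.mem_filter.1 hφ).2
      rw [mul_comm (E φ), ← mul_sub]
      refine Dvd.dvd.mul_left ?_ _
      by_cases h0 : blockHeight 2 b (φ : CZ u → ℂ) = 0
      · obtain ⟨r, hr⟩ := (hK.parity φ hφb).2 h0
        obtain ⟨s, hs⟩ : Odd (scaledDeg 2 b φ) := Int.not_even_iff_odd.1 fun h =>
          H32.not_dvd_scaledDeg hφb h0 (even_iff_two_dvd.1 h)
        exact ⟨r - s, by rw [hr, hs]; ring⟩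
      · refine dvd_sub (even_iff_two_dvd.1 ?_) (dvd_scaledDeg_of_pos S.hM hb hφb h0)
        exact Int.not_odd_iff_even.1 fun h => h0 ((hK.parity φ hφb).1 h)
    constructor
    · intro hodd
      by_contra h0
      have h3 := H40.dvd_sum_scaledDeg_of_height (CZ u) S.hM S.ind hχ h0
        (mult u (χ : IrrCharacter G)) (H56.Subsec.classInner_mult u _)
      have h4 := dvd_add h2 h3
      rw [sub_add_cancel] at h4
      exact (Int.not_even_iff_odd.2 hodd) (even_iff_two_dvd.2 h4)
    · intro h0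
      refine Int.not_even_iff_odd.1 fun h => H32.not_dvd_sum_scaledDeg (CZ u) S.hM S.ind hχ h0
        (mult u (χ : IrrCharacter G)) (H56.Subsec.classInner_mult u _) ?_
      have h4 := dvd_sub (even_iff_two_dvd.1 h) h2
      rwa [sub_sub_cancel] at h4
  · obtain ⟨χ, hχ, hχ0⟩ := H41.exists_height_zero (p := 2) (H41.IsPBlock.nonempty hB)
    exact ⟨⟨χ, mem_blockFinset.2 hχ⟩, hχ0⟩
  · exact_mod_cast H42.charDegree_pos (χ : IrrCharacter G)
  · -- exact contributions
    have hχ₀ := mem_blockFinset.1 χ₀.2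
    have hχ := mem_blockFinset.1 χ.2
    have hu2 : u ^ 2 = 1 := by rw [← hu, pow_orderOf_eq_one]
    have hyC : yC u = uK := Subtype.ext huK.symm
    have hcolT : ∀ ξ : blockFinset B, Comb.colT E' f' κ ξ =
        ∑ φ ∈ blockFinset b, (mult u (ξ : IrrCharacter G) φ : ℤ) * Comb.colT E f κ φ := by
      intro ξ
      simp only [Comb.colT, hE', hf', imgZ, mul_sub, mul_neg, Finset.sum_sub_distrib,
        Finset.sum_neg_distrib, Finset.mul_sum]
      rw [Finset.sum_comm]
      congr 1
      · exact congrArg Neg.neg (Finset.sum_congr rfl fun φ _ => mul_comm _ _)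
      · exact Finset.sum_congr rfl fun φ _ => Finset.sum_congr rfl fun x _ => by ring
    have hcolQ : ∀ (i : Fin e) (ξ : blockFinset B), Comb.colQ E' (g' i) ξ =
        ∑ φ ∈ blockFinset b, (mult u (ξ : IrrCharacter G) φ : ℤ) * Comb.colQ E (g i) φ := by
      intro i ξ
      simp only [Comb.colQ, hE', hg', imgZ, Finset.mul_sum, ← Finset.sum_neg_distrib,
        ← Finset.sum_add_distrib]
      exact Finset.sum_congr rfl fun φ _ => by ring
    have hcont : cont 2 u b (χ₀ : IrrCharacter G) (χ : IrrCharacter G) 1 =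
        (Comb.form (2 ^ a) E' f' g' κ χ₀ χ : ℂ) := by
      have hbil : Comb.form (2 ^ a) E' f' g' κ χ₀ χ =
          ∑ φ ∈ blockFinset b, ∑ η ∈ blockFinset b, (mult u (χ₀ : IrrCharacter G) φ : ℤ) *
            (mult u (χ : IrrCharacter G) η : ℤ) * Comb.form (2 ^ a) E f g κ φ η := by
        simp only [Comb.form, hcolT, hcolQ, Finset.sum_mul_sum, mul_add, Finset.sum_add_distrib]
        simp only [Finset.mul_sum]
        congr 1
        · rw [Finset.sum_comm]
          refine Finset.sum_congr rfl fun φ _ => ?_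
          rw [Finset.sum_comm]
          exact Finset.sum_congr rfl fun η _ => Finset.sum_congr rfl fun i _ => by ring
        · exact Finset.sum_congr rfl fun φ _ => Finset.sum_congr rfl fun η _ => by ring
      rw [hbil, cont, show mem' b = blockFinset b by ext; simp [mem', mem_blockFinset]]
      push_cast
      refine Finset.sum_congr rfl fun φ hφ => Finset.sum_congr rfl fun η hη => ?_
      obtain ⟨s, t, hs, ht, hst⟩ :=
        hK.form φ (mem_blockFinset.1 hφ) η (mem_blockFinset.1 hη)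
      have hsφ : scal u φ = (s : ℂ) := by
        rw [scal, hyC, hs, mul_div_assoc, div_self (H26.irr_one_ne_zero φ), mul_one]
      have htη : scal u η = (t : ℂ) := by
        rw [scal, hyC, ht, mul_div_assoc, div_self (H26.irr_one_ne_zero η), mul_one]
      have ht2 : ((t : ℂ))⁻¹ = t := by
        refine inv_eq_of_mul_eq_one_right ?_
        rw [← pow_two, ← htη, H56.Subsec.scal_pow u hu2]
      rw [pow_one, pow_one, hsφ, htη, ht2, ← hst]
      push_cast
      ring
    have hi := H56.Subsec.isIntegral_redCont S.hM S.ppow S.ind hdef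
      (χ₀ : IrrCharacter G) hχ
    set ht' := blockHeight 2 B ((χ : IrrCharacter G) : G → ℂ)
    have hred : H56.Subsec.redCont 2 u b B (χ₀ : IrrCharacter G) (χ : IrrCharacter G) =
        (Comb.form (2 ^ a) E' f' g' κ χ₀ χ : ℂ) / (((2 : ℤ) ^ ht' : ℤ) : ℂ) := by
      rw [H56.Subsec.redCont, hcont]; push_cast; rfl
    obtain ⟨r, hr⟩ := H42.dvd_of_isIntegral_div (pow_ne_zero ht' (two_ne_zero : (2 : ℤ) ≠ 0))
      (hred ▸ hi)
    refine ⟨r, Int.not_even_iff_odd.1 fun heven => ?_, hr⟩
    refine ((H56.Subsec.res_redCont_eq_zero_iff S.hM S.ppow S.ind hdef hχ₀ hχ).1 ?_) h0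
    have hval : H56.Subsec.redCont 2 u b B (χ₀ : IrrCharacter G) (χ : IrrCharacter G) = (r : ℂ) := by
      rw [hred, hr]
      push_cast
      field_simp
    rw [show (⟨_, H41.isIntegral_mem_localRing hi⟩ : H41.localRing M) = (r : H41.localRing M) from
      Subtype.ext hval, map_intCast]
    exact (H41.IsPModular.intCast_eq_zero_iff S.hM r).2 (by exact_mod_cast even_iff_two_dvd.1 heven)

/-- When the relations span, they bound the rank from below. -/
theorem card_le_rank_add (hB : IsPBlock M B)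
    (hvan : ∀ χ ∈ B, ∀ x : G, 2 ∣ orderOf x → (χ : G → ℂ) x ≠ 0 →
      ∃ y : G, u ∈ Subgroup.zpowers (y⁻¹ * x * y))
    (huniq : ∀ c : Set (IrrCharacter (CZ u)), IsInducedBlock M (CZ u) c B → c = b)
    (hspan : ∀ k : IrrCharacter (CZ u) → ℂ,
      (∀ x : CZ u, ¬ 2 ∣ orderOf x → ∑ φ ∈ blockFinset b, k φ * (φ : CZ u → ℂ) x = 0) →
      ∃ a : ι → ℂ, ∀ φ ∈ b, k φ = ∑ j, a j * fam j φ) :
    Fintype.card (blockFinset B) ≤ blockRank 2 B + Fintype.card ι := by
  haveI : M.IsMaximal := S.hM.2.1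
  haveI := H41.IsPModular.charP S.hM
  have h1 := LinearMap.finrank_range_add_finrank_ker (relMap B)
  rw [finrank_range_relMap, Module.finrank_fintype_fun_eq_card] at h1
  suffices h : LinearMap.ker (relMap B) ≤ Submodule.span ℂ
      (Set.range fun j => fun χ : blockFinset B => img b (fam j) (χ : IrrCharacter G)) by
    have h2 : Module.finrank ℂ (LinearMap.ker (relMap B)) ≤ Fintype.card ι :=
      (Submodule.finrank_mono h).trans (finrank_range_le_card _)
    omega
  intro cc hcc
  rw [LinearMap.mem_ker] at hcc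
  let c0 : IrrCharacter G → ℂ := fun χ => if h : χ ∈ blockFinset B then cc ⟨χ, h⟩ else 0
  set F : G → ℂ := fun x => ∑ χ ∈ blockFinset B, c0 χ * (χ : G → ℂ) x with hF
  have hcc' : ∀ x : G, ∑ χ : blockFinset B, cc χ * ((χ : IrrCharacter G) : G → ℂ) x = F x := by
    intro x
    simp only [hF]
    rw [← Finset.sum_coe_sort (blockFinset B) fun χ => c0 χ * (χ : G → ℂ) x]
    exact Finset.sum_congr rfl fun χ _ => by simp only [c0, dif_pos χ.2]
  have hFreg : ∀ x : G, ¬ 2 ∣ orderOf x → F x = 0 := by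
    intro x hx
    rw [← hcc', ← show (relMap B cc) x = 0 by rw [hcc, Pi.zero_apply]]
    simp [relMap, Fintype.linearCombination_apply, Finset.sum_apply, pRegularPart, IsPRegular, hx]
  have hFcls : IsClassFunction G F := fun x y => Finset.sum_congr rfl fun χ _ => by rw [H26.irr_conj]
  set θ : CZ u → ℂ := fun k => F k with hθdef
  have hθ : IsClassFunction (CZ u) θ := fun x y => by
    simp only [hθdef]
    push_cast
    exact hFcls _ _
  set k0 : IrrCharacter (CZ u) → ℂ := fun φ => classInner θ (φ : CZ u → ℂ) with hk0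
  have hkb : kfun b k0 = blockPart b θ := by
    funext x
    rw [H32.blockPart_eq_sum, kfun]
    refine Finset.sum_congr (by ext; simp [mem_blockFinset]) fun φ _ => rfl
  have hk0reg : ∀ x : CZ u, ¬ 2 ∣ orderOf x →
      ∑ φ ∈ blockFinset b, k0 φ * (φ : CZ u → ℂ) x = 0 := by
    intro x hx
    show kfun b k0 x = 0
    rw [hkb]
    have h := congrFun (H32.pRegularPart_blockPart (p := 2) b θ) x
    simp only [pRegularPart, IsPRegular, hx, not_false_eq_true, if_true] at h
    rw [h, Matrix.mulVec, dotProduct]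
    refine Finset.sum_eq_zero fun t _ => ?_
    by_cases ht : IsPRegular 2 t
    · rw [show θ t = 0 from hFreg _ (by rw [Subgroup.orderOf_coe]; exact ht), mul_zero]
    · rw [H32.projKernel_eq_zero (H32.weakOrthogonal_of_isPBlock S.hM S.ind.1) x ht, zero_mul]
  obtain ⟨a, ha⟩ := hspan k0 hk0reg
  set k1 : IrrCharacter (CZ u) → ℂ := fun φ => ∑ j, a j * fam j φ with hk1
  have hk01 : kfun b k0 = kfun b k1 := by
    funext x
    exact Finset.sum_congr rfl fun φ hφ => by rw [ha φ (mem_blockFinset.1 hφ)]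
  have hk1v : Vanish b uK k1 := fun x hx => by
    simp only [hk1, Finset.sum_mul]
    rw [Finset.sum_comm]
    refine Finset.sum_eq_zero fun j _ => ?_
    rw [← mul_zero (a j), ← hK.vanfam j x hx, Finset.mul_sum]
    exact Finset.sum_congr rfl fun φ _ => mul_assoc _ _ _
  have hsupp := supported_kfun huK hk1v
  have hFeq : ∀ x : G, F x = indFun (CZ u) (kfun b k1) x := by
    intro x
    by_cases hx : ∃ y : G, u ∈ Subgroup.zpowers (y⁻¹ * x * y)
    · obtain ⟨y, hy⟩ := hx
      have hxy : x = y * (y⁻¹ * x * y) * y⁻¹ := by group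
      rw [hxy, hFcls, H25.isClassFunction_indFun (CZ u) (kfun b k1) (y⁻¹ * x * y) y]
      generalize y⁻¹ * x * y = k at hy
      have hkC : k ∈ CZ u := by
        show k ∈ Subgroup.centralizer (Subgroup.zpowers u : Set G)
        rw [H40.centralizer_zpowers_eq, Subgroup.mem_centralizer_singleton_iff]
        obtain ⟨i, hi⟩ := hy
        rw [← hi]
        exact ((Commute.refl k).zpow_right i).eq
      obtain ⟨kK, rfl⟩ : ∃ kK : CZ u, (kK : G) = k := ⟨⟨k, hkC⟩, rfl⟩
      rw [indFun_on_set S hsupp hy, ← hk01, hkb]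
      show θ kK = _
      rw [H32.sum_blockPart_blocks M hθ kK]
      refine Finset.sum_eq_single b (fun c hc hne => ?_) fun h => absurd ?_ h
      · obtain ⟨ξ, -, rfl⟩ := Finset.mem_image.1 hc
        set c := blockOf M (ξ : CZ u → ℂ)
        have hcb : IsPBlock M c := H41.isPBlock_blockOf ξ
        have hPH : Subgroup.zpowers u ≤ CZ u := by
          rw [Subgroup.zpowers_le, CZ, H40.centralizer_zpowers_eq,
            Subgroup.mem_centralizer_singleton_iff]
        obtain ⟨j, hj⟩ := S.ppow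
        obtain ⟨B', hB'⟩ := H40.exists_isInducedBlock S.hM
          (IsPGroup.of_card (n := j) (by rw [Nat.card_zpowers, hj])) hPH le_rfl
          (Subgroup.centralizer_le_normalizer _) hcb
        have hBne : B' ≠ B := fun h => hne (huniq c (h ▸ hB'))
        have S' : TISet 2 M B' (CZ u) u c := ⟨S.hM, hB', S.ppow, S.ne_one, S.cent, S.ti⟩
        have hθsum : θ = ∑ χ ∈ blockFinset B, c0 χ • fun k : CZ u => (χ : G → ℂ) k := by
          funext k
          simp [hθdef, hF, Finset.sum_apply]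
        rw [H32.blockPart_eq_sum]
        simp only [hθsum, H26.classInner_sum_left, H26.classInner_smul_left, Finset.sum_mul]
        rw [Finset.sum_comm]
        refine Finset.sum_eq_zero fun χ hχ => ?_
        have hχB' : χ ∉ B' := fun h =>
          hBne (H41.block_eq_of_mem_of_mem hB'.2.1 hB h (mem_blockFinset.1 hχ))
        rw [← mul_zero (c0 χ), ← TISet.blockPart_eq_zero S' hχB' hy, H32.blockPart_eq_sum,
          Finset.mul_sum]
        exact Finset.sum_congr rfl fun φ _ => mul_assoc _ _ _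
      · obtain ⟨ξ, hξ⟩ := H41.IsPBlock.nonempty S.ind.1
        exact Finset.mem_image.2 ⟨ξ, Finset.mem_univ _, (H41.eq_blockOf_of_mem S.ind.1 hξ).symm⟩
    · push Not at hx
      rw [indFun_eq_zero hsupp hx]
      by_cases hx2 : 2 ∣ orderOf x
      · refine Finset.sum_eq_zero fun χ hχ => ?_
        by_contra h
        obtain ⟨y, hy⟩ := hvan χ (mem_blockFinset.1 hχ) x hx2 (right_ne_zero_of_mul h)
        exact hx y hy
      · exact hFreg x hx2
  refine (Submodule.mem_span_range_iff_exists_fun ℂ).2 ⟨a, funext fun χ => ?_⟩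
  simp only [Finset.sum_apply, Pi.smul_apply, smul_eq_mul]
  rw [kfun_sum, ← hk1, ← coef_kfun, ← classInner_ind (χ : IrrCharacter G),
    show indFun (CZ u) (kfun b k1) = F from funext fun x => (hFeq x).symm,
    show F = ∑ ξ ∈ blockFinset B, c0 ξ • (ξ : G → ℂ) from funext fun x => by
      simp [hF, Finset.sum_apply],
    H26.classInner_sum_left,
    Finset.sum_eq_single_of_mem (χ : IrrCharacter G) χ.2 fun ξ _ hne => by
      rw [H26.classInner_smul_left, H26.classInner_irr, if_neg hne, mul_zero],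
    H26.classInner_smul_left, H26.classInner_irr, if_pos rfl, mul_one]
  simp only [c0, dif_pos χ.2]

end Setting

section Final

variable {M : Ideal AlgInt} {B : Set (IrrCharacter G)} {D : Subgroup G} {σ : G} {c : ℤ} {q : ℕ}

theorem card_blockFinset (B : Set (IrrCharacter G)) :
    Fintype.card (blockFinset B) = Nat.card B := by
  rw [Fintype.card_coe, Nat.card_eq_fintype_card]
  exact (Fintype.card_of_finset' _ fun χ => mem_blockFinset).symm

theorem card_height (B : Set (IrrCharacter G)) (k : ℕ) :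
    (Finset.univ.filter fun χ : blockFinset B =>
      blockHeight 2 B ((χ : IrrCharacter G) : G → ℂ) = k).card =
      Nat.card {χ : IrrCharacter G // χ ∈ B ∧ blockHeight 2 B (χ : G → ℂ) = k} := by
  rw [← Fintype.card_subtype, ← Nat.card_eq_fintype_card]
  exact Nat.card_congr ((Equiv.subtypeSubtypeEquivSubtypeInter (· ∈ blockFinset B)
    fun χ : IrrCharacter G => blockHeight 2 B (χ : G → ℂ) = k).trans
    (Equiv.subtypeEquivRight fun χ => by rw [mem_blockFinset]))

theorem TData.IsQ.subgroupOf {hd : TData D σ c q} (hQ : hd.IsQ) {H : Subgroup G} (hDH : D ≤ H) :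
    (hd.subgroupOf hDH).IsQ := by
  intro w hw ho
  refine Subtype.ext ?_
  push_cast
  exact hQ w (Subgroup.mem_subgroupOf.1 hw) fun h => ho (H22.TICore.mem_zpowers_coe_iff.1 h)

theorem TData.IsSD.subgroupOf {hd : TData D σ c q} (hsd : hd.IsSD) {H : Subgroup G}
    (hDH : D ≤ H) : (hd.subgroupOf hDH).IsSD := by
  obtain ⟨hc, hq, τ, hτ, hτA, hτ2⟩ := hsd
  exact ⟨hc, hq, ⟨τ, hDH hτ⟩, Subgroup.mem_subgroupOf.2 hτ,
    fun h => hτA ((H22.TICore.mem_zpowers_coe_iff (b := (⟨σ, hDH hd.σ_mem⟩ : H))).2 h),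
    Subtype.ext hτ2⟩

theorem central_in_CZ (hd : TData D σ c q) (x : CZ (σ ^ (2 * q))) :
    x * (⟨σ, le_CZ_z hd hd.σ_mem⟩ : CZ (σ ^ (2 * q))) ^ (2 * q) =
      (⟨σ, le_CZ_z hd hd.σ_mem⟩ : CZ (σ ^ (2 * q))) ^ (2 * q) * x := by
  refine Subtype.ext ?_
  push_cast
  have h : (x : G) ∈ Subgroup.centralizer (Subgroup.zpowers (σ ^ (2 * q)) : Set G) := x.2
  rwa [H40.centralizer_zpowers_eq, Subgroup.mem_centralizer_singleton_iff] at h

/-- Semidihedral defect groups. -/
theorem invariants_sd (hM : IsPModular 2 M) (hB : IsPBlock M B) (hD : IsDefectGroup 2 M B D)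
    (hd : TData D σ c q) (hsd : hd.IsSD) {a : ℕ} (ha : q = 2 ^ a) :
    ∃ e ≤ 1, Nat.card B = 4 + (2 * q - 1) + e ∧
      Nat.card {χ : IrrCharacter G // χ ∈ B ∧ blockHeight 2 B (χ : G → ℂ) = 0} = 4 ∧
      Nat.card {χ : IrrCharacter G // χ ∈ B ∧ blockHeight 2 B (χ : G → ℂ) = 1} = 2 * q - 1 ∧
      (∀ χ ∈ B, blockHeight 2 B (χ : G → ℂ) = 0 ∨ blockHeight 2 B (χ : G → ℂ) = 1 ∨
        blockHeight 2 B (χ : G → ℂ) = a + 1) ∧
      1 ≤ blockRank 2 B ∧ blockRank 2 B ≤ e + 2 ∧ (blockRank 2 B = 1 → e = 0) := by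
  haveI : Fact (Nat.Prime 2) := ⟨Nat.prime_two⟩
  haveI : M.IsMaximal := hM.2.1
  haveI := H41.IsPModular.charP hM
  obtain ⟨b, hind, hdef, hDb⟩ := exists_central_block hM hB hD hd
  have S := tiSet_involution hM hd.orderOf_z hind
  obtain ⟨e, r, E, f, g, κ, fam, he1, her, hK⟩ :=
    exists_kernel_sd hM hind.1 hDb (hd.subgroupOf (le_CZ_z hd)) (hsd.subgroupOf (le_CZ_z hd))
      (central_in_CZ hd)
  have huK : ((((⟨σ, le_CZ_z hd hd.σ_mem⟩ : CZ (σ ^ (2 * q))) ^ (2 * q)) :
      CZ (σ ^ (2 * q))) : G) = σ ^ (2 * q) := by push_cast; rfl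
  have hq := hd.q_pos
  have hι : Fintype.card (Unit ⊕ (Fin (2 * q - 1) ⊕ (Fin e ⊕ Fin r))) = 2 * q + 1 := by
    simp; omega
  have hle := rank_add_le S huK hK
  rw [hι] at hle
  have hl : 0 < blockRank 2 B := H23.OneSubsection.blockRank_pos hB
  obtain ⟨hk, h0, h1, hht⟩ := exists_images S huK hK ha hdef hd.orderOf_z (by omega)
  rw [card_blockFinset] at hk hle
  rw [card_height] at h0
  have ha1 : 1 ≤ a := by
    rcases Nat.eq_zero_or_pos a with h | h
    · have := hsd.2.1; rw [ha, h] at this; simp at this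
    · exact h
  have h1' := h1 ha1
  rw [card_height] at h1'
  refine ⟨e, he1, hk, h0, h1', fun χ hχ => hht ⟨χ, mem_blockFinset.2 hχ⟩, hl, by omega, fun hl1 => ?_⟩
  by_contra he0
  have he : e = 1 := by omega
  obtain ⟨φ, d, -, -, hdec, hsum⟩ := H40.exists_rank_one_data hM hB hl1
  have hd8 : 2 ^ blockDefect 2 B = 8 * q := by rw [← H40.card_defectGroup hM hB hD, hd.card]
  rw [hd8] at hsum
  have hone : ∀ χ ∈ B, (charDegree (χ : G → ℂ) : ℂ) = (d χ : ℂ) * φ 1 := fun χ hχ => by
    rw [← H42.irr_one_eq]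
    exact hdec χ hχ 1 (by rw [orderOf_one]; exact Nat.prime_two.not_dvd_one)
  have hd0 : ∀ χ ∈ B, 1 ≤ d χ := fun χ hχ => by
    rcases Nat.eq_zero_or_pos (d χ) with h | h
    · have h' := hone χ hχ
      rw [h, Nat.cast_zero, zero_mul, Nat.cast_eq_zero] at h'
      exact absurd h' (H42.charDegree_pos χ).ne'
    · exact h
  obtain ⟨χ₀, hχ₀, hχ₀0⟩ := H41.exists_height_zero (p := 2) (H41.IsPBlock.nonempty hB)
  have heven : ∀ χ ∈ B, blockHeight 2 B (χ : G → ℂ) = 1 → 2 ≤ d χ := by
    intro χ hχ hχ1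
    have hcross : charDegree (χ : G → ℂ) * d χ₀ = charDegree (χ₀ : G → ℂ) * d χ := by
      apply Nat.cast_injective (R := ℂ)
      push_cast
      rw [hone χ hχ, hone χ₀ hχ₀]; ring
    have hv : (charDegree (χ : G → ℂ) * d χ₀).factorization 2 =
        (charDegree (χ₀ : G → ℂ) * d χ).factorization 2 := by rw [hcross]
    rw [Nat.factorization_mul (H42.charDegree_pos χ).ne' (by have := hd0 χ₀ hχ₀; omega),
      Nat.factorization_mul (H42.charDegree_pos χ₀).ne' (by have := hd0 χ hχ; omega),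
      Finsupp.add_apply, Finsupp.add_apply] at hv
    have hv1 := H42.factorization_degree_add_defect (p := 2) hB hχ
    have hv0 := H42.factorization_degree_add_defect (p := 2) hB hχ₀
    have hpos : 1 ≤ (d χ).factorization 2 := by omega
    by_contra hlt
    have h1d : d χ = 1 := by have := hd0 χ hχ; omega
    rw [h1d, Nat.factorization_one] at hpos
    simp at hpos
  set O := (blockFinset B).filter fun χ : IrrCharacter G => blockHeight 2 B (χ : G → ℂ) = 1 with hO
  have hOc : O.card = 2 * q - 1 := by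
    rw [← h1', Nat.card_eq_fintype_card]
    refine (Fintype.card_of_subtype O fun χ => ?_).symm
    simp [hO, mem_blockFinset]
  have hBc : (blockFinset B).card = 4 + (2 * q - 1) + 1 := by
    rw [← Fintype.card_coe, card_blockFinset, hk, he]
  have hsub : O ⊆ blockFinset B := Finset.filter_subset _ _
  have hA := Finset.card_nsmul_le_sum O (fun χ => d χ ^ 2) 4 fun χ hχ => by
    obtain ⟨hb', h1''⟩ := Finset.mem_filter.1 hχ
    have := heven χ (mem_blockFinset.1 hb') h1''
    exact (Nat.pow_le_pow_left this 2)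
  have hC := Finset.card_nsmul_le_sum (blockFinset B \ O) (fun χ => d χ ^ 2) 1 fun χ hχ =>
    Nat.one_le_pow _ _ (hd0 χ (mem_blockFinset.1 (Finset.mem_sdiff.1 hχ).1))
  rw [← Finset.sum_sdiff hsub] at hsum
  rw [Finset.card_sdiff_of_subset hsub, hOc, hBc] at hC
  rw [hOc] at hA
  simp only [smul_eq_mul] at hA hC
  omega

/-- Quaternion defect groups. -/
theorem invariants_q (hM : IsPModular 2 M) (hB : IsPBlock M B) (hD : IsDefectGroup 2 M B D)
    (hd : TData D σ c q) (hQ : hd.IsQ) {a : ℕ} (ha : q = 2 ^ a) :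
    ∃ e ≤ 2, Nat.card B = 4 + (2 * q - 1) + e ∧ blockRank 2 B = e + 1 ∧
      Nat.card {χ : IrrCharacter G // χ ∈ B ∧ blockHeight 2 B (χ : G → ℂ) = 0} = 4 ∧
      (1 ≤ a →
        Nat.card {χ : IrrCharacter G // χ ∈ B ∧ blockHeight 2 B (χ : G → ℂ) = 1} = 2 * q - 1) ∧
      ∀ χ ∈ B, blockHeight 2 B (χ : G → ℂ) = 0 ∨ blockHeight 2 B (χ : G → ℂ) = 1 ∨
        blockHeight 2 B (χ : G → ℂ) = a + 1 := by
  haveI : Fact (Nat.Prime 2) := ⟨Nat.prime_two⟩
  haveI : M.IsMaximal := hM.2.1
  haveI := H41.IsPModular.charP hM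
  obtain ⟨b, hind, hdef, hDb⟩ := exists_central_block hM hB hD hd
  have S := tiSet_involution hM hd.orderOf_z hind
  obtain ⟨e, r, E, f, g, κ, fam, her, hK, hspan⟩ :=
    exists_kernel_q hM hind.1 hDb (hd.subgroupOf (le_CZ_z hd)) (hQ.subgroupOf (le_CZ_z hd))
      (central_in_CZ hd)
  have huK : ((((⟨σ, le_CZ_z hd hd.σ_mem⟩ : CZ (σ ^ (2 * q))) ^ (2 * q)) :
      CZ (σ ^ (2 * q))) : G) = σ ^ (2 * q) := by push_cast; rfl
  have hq := hd.q_pos
  have hι : Fintype.card (Unit ⊕ (Fin (2 * q - 1) ⊕ (Fin e ⊕ Fin r))) = 2 * q + 2 := by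
    simp; omega
  have hzA : σ ^ (2 * q) ∈ Subgroup.zpowers σ :=
    Subgroup.pow_mem _ (Subgroup.mem_zpowers σ) _
  have hzin : ∀ v ∈ D, ∀ {i : ℕ}, orderOf v = 2 ^ (i + 1) → σ ^ (2 * q) ∈ Subgroup.zpowers v := by
    intro v hv i hvo
    by_cases hvA : v ∈ Subgroup.zpowers σ
    · have ho : orderOf (v ^ 2 ^ i) = 2 := by
        rw [orderOf_pow' _ (pow_ne_zero _ two_ne_zero), hvo,
          Nat.gcd_eq_right (pow_dvd_pow 2 (Nat.le_succ i)), pow_succ,
          Nat.mul_div_cancel_left _ (Nat.two_pow_pos i)]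
      rw [← H22.TICore.eq_of_mem_zpowers (g := σ) hd.orderOf_z ho hzA (Subgroup.pow_mem _ hvA _)]
      exact Subgroup.pow_mem _ (Subgroup.mem_zpowers v) _
    · rw [← hQ v hv hvA]
      exact Subgroup.mul_mem _ (Subgroup.mem_zpowers v) (Subgroup.mem_zpowers v)
  have hvan : ∀ χ ∈ B, ∀ x : G, 2 ∣ orderOf x → (χ : G → ℂ) x ≠ 0 →
      ∃ y : G, σ ^ (2 * q) ∈ Subgroup.zpowers (y⁻¹ * x * y) := by
    intro χ hχ x hx2 hne
    obtain ⟨y, hy⟩ := exists_conj_pp_mem hM hB hD hχ hne
    obtain ⟨y₀, hy₀, -, ⟨i, hi⟩, hreg⟩ := H22.isPPart_pp 2 x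
    rcases i with - | i
    · have h1 : pp 2 x = 1 := orderOf_eq_one_iff.1 (by rw [hi, pow_zero])
      rw [h1, one_mul] at hy₀
      exact absurd (hy₀ ▸ hx2) hreg
    obtain ⟨j, hj⟩ := hzin _ hy (i := i) (by rw [← MulAut.conj_apply, MulEquiv.orderOf_eq, hi])
    refine ⟨y⁻¹, ?_⟩
    rw [inv_inv]
    change (y * pp 2 x * y⁻¹) ^ j = _ at hj
    rw [← hj]
    refine Subgroup.zpow_mem _ ?_ _
    rw [pp, ← conj_pow]
    exact Subgroup.pow_mem _ (Subgroup.mem_zpowers _) _
  have huniq : ∀ c' : Set (IrrCharacter (CZ (σ ^ (2 * q)))),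
      IsInducedBlock M (CZ (σ ^ (2 * q))) c' B → c' = b := by
    obtain ⟨ee, hm⟩ := H40.NilpotentBlocks.exists_isMaxEl_of_defect hM hB hD
    obtain ⟨b₀, hb₀, hcar, -⟩ :=
      H22.exists_carried_block hB hm (Subgroup.pow_mem _ hd.σ_mem (2 * q))
    have hcl : ∀ x : G, x * σ ^ (2 * q) * x⁻¹ ∈ D →
        ∃ d ∈ D, d * σ ^ (2 * q) * d⁻¹ = x * σ ^ (2 * q) * x⁻¹ := by
      intro x hx
      refine ⟨1, one_mem _, ?_⟩
      have ho : orderOf (x * σ ^ (2 * q) * x⁻¹) = 2 := by
        rw [← MulAut.conj_apply, MulEquiv.orderOf_eq]; exact hd.orderOf_z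
      rw [one_mul, _root_.inv_one, mul_one]
      exact H22.TICore.eq_of_mem_zpowers (g := x * σ ^ (2 * q) * x⁻¹) ho hd.orderOf_z
        (Subgroup.mem_zpowers _) (hzin _ hx (i := 0) (by rw [ho]; norm_num))
    have hp1 : ∃ j, orderOf (σ ^ (2 * q)) = 2 ^ j := ⟨1, by rw [hd.orderOf_z, pow_one]⟩
    intro c' hc'
    rw [carried_unique hM hB hm hp1 hcl hb₀ hcar hc',
      carried_unique hM hB hm hp1 hcl hb₀ hcar hind]
  have hle := rank_add_le S huK hK
  have hge := card_le_rank_add S huK hK hB hvan huniq hspan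
  rw [hι] at hle hge
  have hl : 0 < blockRank 2 B := H23.OneSubsection.blockRank_pos hB
  obtain ⟨hk, h0, h1, hht⟩ := exists_images S huK hK ha hdef hd.orderOf_z (by omega)
  rw [card_blockFinset] at hk hle hge
  rw [card_height] at h0
  refine ⟨e, hK.e_le, hk, by omega, h0, fun ha1 => ?_, fun χ hχ => hht ⟨χ, mem_blockFinset.2 hχ⟩⟩
  have h1' := h1 ha1
  rwa [card_height] at h1'

end Final

end Cfsg.Agent.H40.Tame
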