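import Cfsg.Agent.H40.Tame.Quot
import Cfsg.Agent.H56.ContribRankTwo
import Mathlib.LinearAlgebra.Dimension.Finite
import Mathlib.LinearAlgebra.Dimension.Constructions

/-!
# The rows of a block with semidihedral or quaternion defect group and central involution

The members are four of height zero, `2 q - 1` further ones with `T = -2` and `e` further ones
with one `Q = -2`, after the right signs.
-/

set_option autoImplicit false
set_option linter.unusedSectionVars false
set_option linter.style.haveILetI false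

open scoped ComplexConjugate Classical

namespace Cfsg.Agent.H40.Tame

open Cfsg
open Cfsg.Agent.H42 (regRes regInt blockFinset mem_blockFinset)
open Cfsg.Agent.H32 (scaledReg minVal)

universe v

/-- The index set of the members. -/
abbrev J (q e : ℕ) : Type := Fin 4 ⊕ (Fin (2 * q - 1) ⊕ Fin e)

/-- The patterns on the four of height zero. -/
def pat {e : ℕ} (t : Fin e) : Fin 4 → ℤ :=
  if (t : ℕ) = 0 then ![1, -1, 1, -1] else ![1, -1, -1, 1]

/-- The signed column `T`. -/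
def rowT (q e : ℕ) : J q e → ℤ :=
  Sum.elim ![1, 1, -1, -1] (Sum.elim (fun _ => -2) fun _ => 0)

/-- The signed columns `Q`. -/
def rowQ (q : ℕ) {e : ℕ} (t : Fin e) : J q e → ℤ :=
  Sum.elim (pat t) (Sum.elim (fun _ => 0) fun i => if i = t then -2 else 0)

/-- The scalars of `z`. -/
def zeta {q : ℕ} (e : ℕ) (κ : Fin (2 * q - 1) → ℤ) : J q e → ℤ :=
  Sum.elim (fun _ => 1) (Sum.elim κ fun _ => -1)

/-- The normal form. -/
structure Norm {H : Type v} [Group H] [Fintype H] (b : Set (IrrCharacter H)) (σ : H) (q e : ℕ)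
    (ch : J q e → IrrCharacter H) (sg : J q e → ℤ) (κ : Fin (2 * q - 1) → ℤ) : Prop where
  e_le : e ≤ 2
  κ_sign : ∀ x, κ x = 1 ∨ κ x = -1
  κ_sum : ∑ x, κ x = -1
  inj : Function.Injective ch
  range : Set.range ch = b
  sign : ∀ i, sg i = 1 ∨ sg i = -1
  height : ∀ i, blockHeight 2 b (ch i : H → ℂ) = 0 ↔ ∃ a, i = Sum.inl a
  formula : ∀ i j, sg i * sg j * scaledReg 2 b (ch i) (ch j) =
    (q : ℤ) * ∑ t : Fin e, rowQ q t i * rowQ q t j + rowT q e i * rowT q e j
  scal : ∀ i, (ch i : H → ℂ) (σ ^ (2 * q)) = (zeta e κ i : ℂ) * (ch i : H → ℂ) 1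
  off : ∀ g : H, 2 ∣ orderOf g → σ ^ (2 * q) ∉ Subgroup.zpowers g →
    ∀ A : J q e → ℂ, (∀ i, A i = (sg i : ℂ) * (ch i : H → ℂ) g) →
      (∀ j, A (Sum.inr j) = 0) ∧ A (Sum.inl 0) + A (Sum.inl 1) = 0 ∧
        A (Sum.inl 2) + A (Sum.inl 3) = 0 ∧ (1 ≤ e → A (Sum.inl 0) + A (Sum.inl 2) = 0) ∧
          (e = 2 → A (Sum.inl 0) + A (Sum.inl 3) = 0)

variable {H : Type v} [Group H] [Fintype H] [Fact (Nat.Prime 2)] {M : Ideal AlgInt}
  {b : Set (IrrCharacter H)}

/-- An entry of a row of height zero has the exact power of two of the height. -/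
theorem exact_entry (hM : IsPModular 2 M) (hB : IsPBlock M b) {A φ : IrrCharacter H} (hA : A ∈ b)
    (h0 : blockHeight 2 b (A : H → ℂ) = 0) (hφ : φ ∈ b) :
    ∃ m : ℤ, Odd m ∧ scaledReg 2 b A φ = 2 ^ blockHeight 2 b (φ : H → ℂ) * m := by
  have := hM.2.1
  have h1 := H42.factorization_degree_add_defect (p := 2) hB hφ
  have h2 := H22.TameRows.minVal_add_defect hM hB
  have hv : (charDegree (φ : H → ℂ)).factorization 2 =
      blockHeight 2 b (φ : H → ℂ) + minVal 2 b := by omega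
  have hdiv : (2 : ℤ) ^ (charDegree (φ : H → ℂ)).factorization 2 ∣ regInt 2 A φ := by
    rw [H42.regInt_comm]; exact_mod_cast H42.pow_dvd_regInt_left 2 φ A
  rw [← H32.scaledReg_mul hA φ, hv, pow_add] at hdiv
  obtain ⟨m, hm⟩ := (mul_dvd_mul_iff_right (pow_ne_zero _ (two_ne_zero : (2 : ℤ) ≠ 0))).1 hdiv
  refine ⟨m, Int.not_even_iff_odd.1 fun ⟨k, hk⟩ => ?_, hm⟩
  refine H42.not_pow_succ_dvd_regInt hM hB hA h0 hφ ⟨k, ?_⟩
  rw [← H32.scaledReg_mul hA φ, hm, hk, hv]
  push_cast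
  ring

/-- A row kills the columns of the singular elements. -/
theorem sum_scaledReg_apply (hM : IsPModular 2 M) (hB : IsPBlock M b) {φ : IrrCharacter H}
    (hφ : φ ∈ b) {g : H} (hg : 2 ∣ orderOf g) :
    ∑ ξ ∈ blockFinset b, (scaledReg 2 b φ ξ : ℂ) * (ξ : H → ℂ) g = 0 := by
  have := hM.2.1
  have h := H42.regRes_eq_sum_block hM hB hφ g
  rw [H42.regRes_of_singular hg] at h
  refine (mul_right_inj' (a := ((2 : ℕ) : ℂ) ^ minVal 2 b *
    (((2 : ℕ) ^ (Nat.card H).factorization 2 : ℕ) : ℂ)⁻¹) (mul_ne_zero (pow_ne_zero _ (by norm_num))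
      (inv_ne_zero (by exact_mod_cast pow_ne_zero _ two_ne_zero)))).1 ?_
  rw [mul_zero, h, Finset.mul_sum]
  refine Finset.sum_congr rfl fun ξ _ => ?_
  rw [← H32.cast_scaledReg (F := ℂ) hφ ξ]
  ring

/-- A relation on the regular elements kills the scaled rows. -/
theorem sum_mul_scaledReg_eq_zero (hM : IsPModular 2 M) (hB : IsPBlock M b)
    {c : IrrCharacter H → ℂ}
    (hc : ∀ g : H, ¬ 2 ∣ orderOf g → ∑ χ ∈ blockFinset b, c χ * (χ : H → ℂ) g = 0)
    (η : IrrCharacter H) :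
    ∑ χ ∈ blockFinset b, c χ * (scaledReg 2 b χ η : ℂ) = 0 := by
  have h0 : (∑ χ ∈ blockFinset b, c χ • regRes 2 (χ : H → ℂ)) = 0 := by
    funext g
    rw [Finset.sum_apply, Pi.zero_apply]
    by_cases hg : 2 ∣ orderOf g
    · exact Finset.sum_eq_zero fun χ _ => by
        rw [Pi.smul_apply, H42.regRes_of_singular hg, smul_zero]
    · rw [← hc g hg]
      exact Finset.sum_congr rfl fun χ _ => by
        rw [Pi.smul_apply, H42.regRes_of_regular hg, smul_eq_mul]
  calc ∑ χ ∈ blockFinset b, c χ * (scaledReg 2 b χ η : ℂ)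
      = ((2 : ℕ) : ℂ) ^ blockDefect 2 b *
          classInner (∑ χ ∈ blockFinset b, c χ • regRes 2 (χ : H → ℂ)) (regRes 2 (η : H → ℂ)) := by
        rw [H26.classInner_sum_left, Finset.mul_sum]
        refine Finset.sum_congr rfl fun χ hχ => ?_
        rw [H20.BrauerFeit.cast_scaledReg_eq hM hB (mem_blockFinset.1 hχ), H26.classInner_smul_left]
        ring
    _ = 0 := by rw [h0, H26.classInner_zero_left, mul_zero]

/-- A combination killed by the scaled rows vanishes on the regular elements. -/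
theorem sum_apply_eq_zero_of_rows (hM : IsPModular 2 M) (hB : IsPBlock M b)
    {c : IrrCharacter H → ℂ}
    (hc : ∀ η ∈ b, ∑ χ ∈ blockFinset b, c χ * (scaledReg 2 b χ η : ℂ) = 0) {g : H}
    (hg : ¬ 2 ∣ orderOf g) : ∑ χ ∈ blockFinset b, c χ * (χ : H → ℂ) g = 0 := by
  set F := ∑ χ ∈ blockFinset b, c χ • regRes 2 (χ : H → ℂ) with hF
  have h : classInner F F = 0 := by
    refine (mul_right_inj' (pow_ne_zero (blockDefect 2 b) (show ((2 : ℕ) : ℂ) ≠ 0 by norm_num))).1 ?_
    rw [mul_zero, hF, H26.classInner_sum_right, Finset.mul_sum]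
    refine Finset.sum_eq_zero fun η hη => ?_
    rw [H26.classInner_smul_right, H26.classInner_sum_left, Finset.mul_sum, Finset.mul_sum,
      ← mul_zero (conj (c η)), ← hc η (mem_blockFinset.1 hη), Finset.mul_sum]
    refine Finset.sum_congr rfl fun χ hχ => ?_
    rw [H20.BrauerFeit.cast_scaledReg_eq hM hB (mem_blockFinset.1 hχ), H26.classInner_smul_left]
    ring
  have h2 := congrFun (H56.Subsec.classInner_self_eq_zero h) g
  rw [Pi.zero_apply] at h2
  rw [← h2, hF, Finset.sum_apply]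
  exact Finset.sum_congr rfl fun χ _ => by
    rw [Pi.smul_apply, H42.regRes_of_regular hg, smul_eq_mul]

omit [Fact (Nat.Prime 2)] in
theorem pat_ortho {e : ℕ} (he : e ≤ 2) (t s : Fin e) :
    ∑ a, pat t a * pat s a = if t = s then 4 else 0 := by
  rcases t with ⟨t, ht⟩
  rcases s with ⟨s, hs⟩
  have ht2 : t < 2 := by omega
  have hs2 : s < 2 := by omega
  interval_cases t <;> interval_cases s <;> simp [pat, Fin.sum_univ_four]

variable {D : Subgroup H} {σ : H} {c : ℤ} {q : ℕ}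

set_option maxHeartbeats 1600000 in
/-- The normal form of the block. -/
theorem exists_norm (hM : IsPModular 2 M) (hB : IsPBlock M b) (hD : IsDefectGroup 2 M b D)
    (hd : TData D σ c q) (hz : ∀ g : H, g * σ ^ (2 * q) = σ ^ (2 * q) * g)
    (hU : HasUVectors b σ q) :
    ∃ (e : ℕ) (ch : J q e → IrrCharacter H) (sg : J q e → ℤ) (κ : Fin (2 * q - 1) → ℤ),
      Norm b σ q e ch sg κ := by
  haveI : M.IsMaximal := hM.2.1
  obtain ⟨m, e, ch, ε, qv, w, hF⟩ := exists_frame hM hB hD hd hz hU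
  obtain ⟨E, v, s₀, -, hoff, hE4, hodd, hEz, hvz, hsupp, hvind⟩ := hU
  obtain ⟨k, hk⟩ := hd.pow
  have hqpos := hd.q_pos
  have hq0 : (q : ℤ) ≠ 0 := by exact_mod_cast hqpos.ne'
  set z := σ ^ (2 * q) with hzdef
  have hz2 : z * z = 1 := by
    rw [← pow_two]; conv_lhs => arg 2; rw [← hd.orderOf_z]
    exact pow_orderOf_eq_one z
  have hd8 : (2 : ℤ) ^ blockDefect 2 b = 8 * (q : ℤ) := by
    have h : 2 ^ blockDefect 2 b = 8 * q := by rw [← H40.card_defectGroup hM hB hD, hd.card]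
    exact_mod_cast h
  have hεsq : ∀ i, ε i * ε i = 1 := fun i => by rcases hF.sign i with h | h <;> simp [h]
  -- the patterns
  obtain ⟨N, hNw, hqq, hqT, hgood⟩ : ∃ N : ℤ, w * N = 4 * (q : ℤ) ∧
      (∀ t s, ∑ a, qv t a * qv s a = if t = s then N else 0) ∧
      (∀ t, ∑ a, qv t a * ![1, 1, -1, -1] a = 0) ∧
      ((N = 2 ∧ e = 1 ∧ ∀ t, ∃ a, qv t a = 0) ∨ (N = 4 ∧ w = q ∧ e ≤ 2 ∧ ∀ t, qv t = pat t)) := by
    rcases hF.patterns with ⟨hw, h⟩ | ⟨hw, he, h⟩
    · have hp : e ≤ 2 ∧ ∀ t, qv t = pat t := by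
        rcases h with rfl | ⟨rfl, h⟩ | ⟨rfl, h⟩
        · exact ⟨by omega, fun t => t.elim0⟩
        · exact ⟨by omega, fun t => by rw [h, pat, if_pos (by omega)]⟩
        · exact ⟨le_rfl, fun t => by rw [h, pat]⟩
      refine ⟨4, by rw [hw]; ring, fun t s => by rw [hp.2, hp.2]; exact pat_ortho hp.1 t s,
        fun t => ?_, Or.inr ⟨rfl, hw, hp⟩⟩
      rw [hp.2, pat]
      split_ifs <;> simp [Fin.sum_univ_four]
    · subst he
      refine ⟨2, by rw [hw]; ring, fun t s => ?_, fun t => ?_, Or.inl ⟨rfl, rfl, fun t => ?_⟩⟩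
      · rw [if_pos (Subsingleton.elim t s)]
        rcases h with h | h <;> simp [h, Fin.sum_univ_four]
      · rcases h with h | h <;> simp [h, Fin.sum_univ_four]
      · rcases h with h | h
        · exact ⟨2, by simp [h]⟩
        · exact ⟨0, by simp [h]⟩
  have hN0 : N ≠ 0 := fun h => by rw [h, mul_zero] at hNw; omega
  have hw0 : w ≠ 0 := fun h => by rw [h, zero_mul] at hNw; omega
  -- the rows of all members
  have hrow : ∀ χ : b, ∃ zc : Ix m → ℤ,
      regRes 2 ((χ : IrrCharacter H) : H → ℂ) = ∑ i, (zc i : ℂ) • regRes 2 (ch i : H → ℂ) ∧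
        ∀ i, ch i = χ → zc = Pi.single i 1 := by
    intro χ
    by_cases h : ∃ i, ch i = (χ : IrrCharacter H)
    · obtain ⟨i, hi⟩ := h
      refine ⟨Pi.single i 1, ?_, fun j hj => by rw [hF.inj (hj.trans hi.symm)]⟩
      rw [Finset.sum_eq_single i (fun j _ hj => by simp [hj]) (by simp), Pi.single_eq_same,
        Int.cast_one, one_smul, hi]
    · obtain ⟨zc, hzc⟩ := hF.span χ χ.2
      exact ⟨zc, hzc, fun i hi => absurd ⟨i, hi⟩ h⟩
  choose zc hzc hzcs using hrow
  let T : IrrCharacter H → ℤ := fun χ =>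
    if h : χ ∈ b then ∑ i, zc ⟨χ, h⟩ i * ε i * vecT m i else 0
  let Qr : Fin e → IrrCharacter H → ℤ := fun t χ =>
    if h : χ ∈ b then ∑ i, zc ⟨χ, h⟩ i * ε i * vecQ m (qv t) i else 0
  have hTch : ∀ i, T (ch i) = ε i * vecT m i := fun i => by
    simp only [T, dif_pos (hF.mem i), hzcs ⟨ch i, hF.mem i⟩ i rfl]
    rw [Finset.sum_eq_single i (fun j _ hj => by simp [hj]) (by simp), Pi.single_eq_same, one_mul]
  have hQch : ∀ t i, Qr t (ch i) = ε i * vecQ m (qv t) i := fun t i => by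
    simp only [Qr, dif_pos (hF.mem i), hzcs ⟨ch i, hF.mem i⟩ i rfl]
    rw [Finset.sum_eq_single i (fun j _ hj => by simp [hj]) (by simp), Pi.single_eq_same, one_mul]
  have hform : ∀ φ ∈ b, ∀ ψ ∈ b,
      scaledReg 2 b φ ψ = w * ∑ t, Qr t φ * Qr t ψ + T φ * T ψ := by
    intro φ hφ ψ hψ
    have h1 : scaledReg 2 b φ ψ =
        ∑ i, ∑ j, zc ⟨φ, hφ⟩ i * zc ⟨ψ, hψ⟩ j * scaledReg 2 b (ch i) (ch j) := by
      apply Int.cast_injective (α := ℂ)
      push_cast
      rw [H20.BrauerFeit.cast_scaledReg_eq hM hB hφ, hzc ⟨φ, hφ⟩, hzc ⟨ψ, hψ⟩,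
        H26.classInner_sum_left, Finset.mul_sum]
      refine Finset.sum_congr rfl fun i _ => ?_
      rw [H26.classInner_smul_left, H26.classInner_sum_right, Finset.mul_sum, Finset.mul_sum]
      refine Finset.sum_congr rfl fun j _ => ?_
      rw [H26.classInner_smul_right, map_intCast,
        H20.BrauerFeit.cast_scaledReg_eq hM hB (hF.mem i)]
      ring
    have h2 : ∀ i j, scaledReg 2 b (ch i) (ch j) = w * ∑ t, (ε i * vecQ m (qv t) i) *
        (ε j * vecQ m (qv t) j) + ε i * vecT m i * (ε j * vecT m j) := by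
      intro i j
      calc scaledReg 2 b (ch i) (ch j)
          = ε i * ε j * (ε i * ε j * scaledReg 2 b (ch i) (ch j)) := by
            linear_combination (-(scaledReg 2 b (ch i) (ch j) * (ε i * ε i))) * hεsq j -
              scaledReg 2 b (ch i) (ch j) * hεsq i
        _ = _ := by
            rw [hF.formula i j, mul_add, ← mul_assoc, Finset.mul_sum, Finset.mul_sum]
            congr 1
            · exact Finset.sum_congr rfl fun t _ => by ring
            · ring
    simp only [h1, h2, T, Qr, dif_pos hφ, dif_pos hψ, mul_add, Finset.sum_add_distrib,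
      Finset.sum_mul_sum]
    simp only [Finset.mul_sum]
    congr 1
    · refine (Finset.sum_congr rfl fun i _ => Finset.sum_comm).trans (Finset.sum_comm.trans ?_)
      exact Finset.sum_congr rfl fun t _ => Finset.sum_congr rfl fun i _ =>
        Finset.sum_congr rfl fun j _ => by ring
    · exact Finset.sum_congr rfl fun i _ => Finset.sum_congr rfl fun j _ => by ring
  -- combinations of the rows of height zero
  let A : Fin 4 → IrrCharacter H := fun a => ch (Sum.inl a)
  have hAb : ∀ a, A a ∈ b := fun a => hF.mem _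
  have hA0 : ∀ a, blockHeight 2 b (A a : H → ℂ) = 0 := fun a => (hF.height _).2 ⟨a, rfl⟩
  let T0 : Fin 4 → ℤ := ![1, 1, -1, -1]
  have hT0 : ∑ a, T0 a * T0 a = 4 := by simp [T0, Fin.sum_univ_four]
  let L : (Fin 4 → ℤ) → IrrCharacter H → ℤ := fun cc ξ =>
    ∑ a, cc a * ε (Sum.inl a) * scaledReg 2 b (A a) ξ
  have hL : ∀ cc, ∀ ξ ∈ b, L cc ξ =
      w * ∑ t, (∑ a, cc a * qv t a) * Qr t ξ + (∑ a, cc a * T0 a) * T ξ := by
    intro cc ξ hξ
    simp only [L, hform _ (hAb _) ξ hξ]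
    simp only [A, hTch, hQch, mul_add, Finset.sum_add_distrib, Finset.mul_sum, Finset.sum_mul]
    congr 1
    · rw [Finset.sum_comm]
      refine Finset.sum_congr rfl fun t _ => Finset.sum_congr rfl fun a _ => ?_
      simp only [vecQ, Sum.elim_inl]
      linear_combination (w * cc a * qv t a * Qr t ξ) * hεsq (Sum.inl a)
    · refine Finset.sum_congr rfl fun a _ => ?_
      simp only [vecT, Sum.elim_inl, T0]
      linear_combination (cc a * ![1, 1, -1, -1] a * T ξ) * hεsq (Sum.inl a)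
  have hLT : ∀ ξ ∈ b, L T0 ξ = 4 * T ξ := by
    intro ξ hξ
    rw [hL _ ξ hξ, hT0, Finset.sum_eq_zero fun t _ => by
      rw [show ∑ a, T0 a * qv t a = 0 by rw [← hqT t]; exact Finset.sum_congr rfl fun a _ => mul_comm _ _,
        zero_mul], mul_zero, zero_add]
  have hLQ : ∀ t, ∀ ξ ∈ b, L (qv t) ξ = 4 * (q : ℤ) * Qr t ξ := by
    intro t ξ hξ
    rw [hL _ ξ hξ, show ∑ a, qv t a * T0 a = 0 from hqT t, zero_mul, add_zero,
      Finset.sum_eq_single t (fun s _ hs => by rw [hqq, if_neg (Ne.symm hs), zero_mul]) (by simp),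
      hqq, if_pos rfl, ← mul_assoc, hNw]
  have hLsum : ∀ cc cc', ∑ ξ ∈ blockFinset b, L cc ξ * L cc' ξ = 8 * (q : ℤ) *
      (w * ∑ t, (∑ a, cc a * qv t a) * (∑ a, cc' a * qv t a) +
        (∑ a, cc a * T0 a) * (∑ a, cc' a * T0 a)) := by
    intro cc cc'
    have h1 : ∑ ξ ∈ blockFinset b, L cc ξ * L cc' ξ =
        8 * (q : ℤ) * ∑ a, cc' a * ε (Sum.inl a) * L cc (A a) := by
      have h3 : ∀ a a', ∑ ξ ∈ blockFinset b,
          scaledReg 2 b (A a) ξ * scaledReg 2 b (A a') ξ = 8 * (q : ℤ) * scaledReg 2 b (A a) (A a') := by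
        intro a a'
        rw [← hd8, ← H22.TameRows.sum_scaledReg_mul hM hB (hAb a) (A a')]
        exact Finset.sum_congr rfl fun ξ _ => by rw [H32.scaledReg_comm (A a')]
      simp only [L, Finset.sum_mul_sum]
      rw [Finset.sum_comm]
      simp only [Finset.mul_sum]
      rw [Finset.sum_comm (s := (Finset.univ : Finset (Fin 4))) (t := (Finset.univ : Finset (Fin 4)))
        (f := fun a' a => 8 * (q : ℤ) * (cc' a' * ε (Sum.inl a') *
          (cc a * ε (Sum.inl a) * scaledReg 2 b (A a) (A a'))))]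
      refine Finset.sum_congr rfl fun a _ => ?_
      rw [Finset.sum_comm]
      refine Finset.sum_congr rfl fun a' _ => ?_
      rw [Finset.sum_congr rfl fun ξ _ => show
        cc a * ε (Sum.inl a) * scaledReg 2 b (A a) ξ *
          (cc' a' * ε (Sum.inl a') * scaledReg 2 b (A a') ξ) =
        cc a * ε (Sum.inl a) * (cc' a' * ε (Sum.inl a')) *
          (scaledReg 2 b (A a) ξ * scaledReg 2 b (A a') ξ) by ring, ← Finset.mul_sum, h3]
      ring
    have h2 : ∀ a, L cc (A a) = ε (Sum.inl a) *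
        (w * ∑ t, (∑ a', cc a' * qv t a') * qv t a + (∑ a', cc a' * T0 a') * T0 a) := by
      intro a
      rw [hL cc _ (hAb a)]
      simp only [A, hTch, hQch, vecT, vecQ, Sum.elim_inl, T0, mul_add, Finset.mul_sum]
      congr 1
      · exact Finset.sum_congr rfl fun t _ => by ring
      · ring
    rw [h1]
    congr 1
    rw [Finset.sum_congr rfl fun a _ => show cc' a * ε (Sum.inl a) * L cc (A a) =
      cc' a * (w * ∑ t, (∑ a', cc a' * qv t a') * qv t a + (∑ a', cc a' * T0 a') * T0 a) by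
        rw [h2]
        linear_combination (cc' a *
          (w * ∑ t, (∑ a', cc a' * qv t a') * qv t a + (∑ a', cc a' * T0 a') * T0 a)) *
          hεsq (Sum.inl a)]
    simp only [mul_add, Finset.sum_add_distrib, Finset.mul_sum, Finset.sum_mul]
    congr 1
    · rw [Finset.sum_comm]
      refine Finset.sum_congr rfl fun t _ => ?_
      exact Finset.sum_congr rfl fun a _ => Finset.sum_congr rfl fun a' _ => by ring
    · exact Finset.sum_congr rfl fun a _ => Finset.sum_congr rfl fun a' _ => by ring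
  have hTT : ∑ ξ ∈ blockFinset b, T ξ * T ξ = 8 * (q : ℤ) := by
    have h := hLsum T0 T0
    rw [Finset.sum_congr rfl fun ξ hξ => show L T0 ξ * L T0 ξ = 16 * (T ξ * T ξ) by
      rw [hLT ξ (mem_blockFinset.1 hξ)]; ring, ← Finset.mul_sum, hT0,
      Finset.sum_eq_zero (s := Finset.univ) fun t _ => by
        rw [show ∑ a, T0 a * qv t a = 0 by
          rw [← hqT t]; exact Finset.sum_congr rfl fun a _ => mul_comm _ _, zero_mul]] at h
    linarith
  have hTQ : ∀ t, ∑ ξ ∈ blockFinset b, T ξ * Qr t ξ = 0 := by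
    intro t
    have h := hLsum T0 (qv t)
    rw [Finset.sum_congr rfl fun ξ hξ => show L T0 ξ * L (qv t) ξ = 16 * q * (T ξ * Qr t ξ) by
      rw [hLT ξ (mem_blockFinset.1 hξ), hLQ t ξ (mem_blockFinset.1 hξ)]; ring, ← Finset.mul_sum,
      show ∑ a, qv t a * T0 a = 0 from hqT t, mul_zero, add_zero,
      Finset.sum_eq_zero (s := Finset.univ) fun s _ => by
        rw [show ∑ a, T0 a * qv s a = 0 by
          rw [← hqT s]; exact Finset.sum_congr rfl fun a _ => mul_comm _ _, zero_mul],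
      mul_zero, mul_zero] at h
    exact (mul_eq_zero.1 h).resolve_left (by omega)
  have hQQ : ∀ t s, ∑ ξ ∈ blockFinset b, Qr t ξ * Qr s ξ = if t = s then 2 * N else 0 := by
    intro t s
    have h := hLsum (qv t) (qv s)
    rw [Finset.sum_congr rfl fun ξ hξ => show L (qv t) ξ * L (qv s) ξ =
        16 * q * q * (Qr t ξ * Qr s ξ) by
      rw [hLQ t ξ (mem_blockFinset.1 hξ), hLQ s ξ (mem_blockFinset.1 hξ)]; ring, ← Finset.mul_sum,
      show ∑ a, qv t a * T0 a = 0 from hqT t, zero_mul, add_zero,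
      Finset.sum_eq_single t (fun r _ hr => by rw [hqq t r, if_neg (Ne.symm hr), zero_mul]) (by simp),
      hqq, if_pos rfl, hqq] at h
    refine mul_left_cancel₀ (show 16 * (q : ℤ) * q ≠ 0 by positivity) (h.trans ?_)
    by_cases hts : t = s
    · subst hts
      simp only [if_pos]
      linear_combination (8 * (q : ℤ) * N) * hNw
    · rw [if_neg hts, if_neg (Ne.symm hts)]; ring
  -- the members where `z` acts by `-1`
  set I := (Finset.univ : Finset (Ix m)).image ch with hI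
  have hIb : I ⊆ blockFinset b := fun χ hχ => by
    obtain ⟨i, -, rfl⟩ := Finset.mem_image.1 hχ
    exact mem_blockFinset.2 (hF.mem i)
  set O := blockFinset b \ I with hO
  have hOb : ∀ χ ∈ O, χ ∈ b := fun χ hχ => mem_blockFinset.1 (Finset.mem_sdiff.1 hχ).1
  have hsplit : ∀ {X : Type} [AddCommMonoid X] (f : IrrCharacter H → X),
      ∑ χ ∈ blockFinset b, f χ = (∑ χ ∈ O, f χ) + ∑ i, f (ch i) := by
    intro X _ f
    rw [hO, ← Finset.sum_sdiff hIb, hI, Finset.sum_image fun x _ y _ h => hF.inj h]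
  have hscal : ∀ χ : IrrCharacter H, ∃ cz : ℂ, (cz = 1 ∨ cz = -1) ∧
      (χ : H → ℂ) z = cz * (χ : H → ℂ) 1 ∧ ∀ g, (χ : H → ℂ) (z * g) = cz * (χ : H → ℂ) g := by
    intro χ
    obtain ⟨cz, hcz, h1, h2⟩ := H45.irr_central_mul χ (z := z) fun g => (hz g).symm
    rw [hd.orderOf_z] at hcz
    exact ⟨cz, sq_eq_one_iff.1 hcz, h1, h2⟩
  have hzO : ∀ χ ∈ O, ∀ g, (χ : H → ℂ) (z * g) = -(χ : H → ℂ) g := by
    intro χ hχ g
    obtain ⟨cz, hc1 | hc1, hcz, hcg⟩ := hscal χ
    · rw [hc1, one_mul] at hcz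
      obtain ⟨i, rfl⟩ := hF.cover χ (hOb χ hχ) hcz
      exact absurd (Finset.mem_image_of_mem ch (Finset.mem_univ i)) (Finset.mem_sdiff.1 hχ).2
    · rw [hcg, hc1, neg_one_mul]
  have hzI : ∀ i g, (ch i : H → ℂ) (z * g) = (ch i : H → ℂ) g := by
    intro i g
    obtain ⟨cz, -, hcz, hcg⟩ := hscal (ch i)
    have h1 : cz = 1 := mul_right_cancel₀ (H26.irr_one_ne_zero (ch i))
      (hcz.symm.trans ((hF.triv i).trans (one_mul _).symm))
    rw [hcg, h1, one_mul]
  have hOE : ∀ χ ∈ O, E χ = 0 := by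
    intro χ hχ
    have hone : ∀ a, (1 : ℤ) ≤ E (A a) ^ 2 := fun a => by
      obtain ⟨j, hj⟩ := (hodd _ (hAb a)).2 (hA0 a)
      exact Int.add_one_le_iff.2 (sq_pos_of_ne_zero (by omega))
    have h := hE4
    rw [hsplit, Fintype.sum_sum_type] at h
    have h1 : (4 : ℤ) ≤ ∑ a, E (A a) ^ 2 := by
      calc (4 : ℤ) = ∑ _a : Fin 4, (1 : ℤ) := by simp
        _ ≤ _ := Finset.sum_le_sum fun a _ => hone a
    have h2 : (0 : ℤ) ≤ ∑ y : Fin m, E (ch (Sum.inr y)) ^ 2 :=
      Finset.sum_nonneg fun y _ => sq_nonneg _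
    have h3 : (0 : ℤ) ≤ ∑ χ ∈ O, E χ ^ 2 := Finset.sum_nonneg fun y _ => sq_nonneg _
    have h4 : ∑ χ ∈ O, E χ ^ 2 = 0 := by simp only [A] at h1; omega
    exact (pow_eq_zero_iff two_ne_zero).1
      ((Finset.sum_eq_zero_iff_of_nonneg fun χ _ => sq_nonneg (E χ)).1 h4 χ hχ)
  have hOht : ∀ χ ∈ O, blockHeight 2 b (χ : H → ℂ) ≠ 0 := fun χ hχ h0 => by
    have := (hodd χ (hOb χ hχ)).2 h0
    simp [hOE χ hχ] at this
  have hs1 : (s₀ : ℂ) = 1 := by
    have hne : E (A 0) ≠ 0 := fun h => by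
      have := (hodd _ (hAb 0)).2 (hA0 0)
      simp [h] at this
    exact mul_right_cancel₀ (H26.irr_one_ne_zero (A 0))
      ((hEz _ hne).symm.trans ((hF.triv (Sum.inl 0)).trans (one_mul _).symm))
  have hvI : ∀ r i, v r (ch i) = 0 := fun r i => by
    by_contra h
    have h1 := hvz r _ h
    rw [hs1, hF.triv, ← sub_eq_zero] at h1
    refine H26.irr_one_ne_zero (ch i) ?_
    linear_combination (1 / 2 : ℂ) * h1
  have hvO : ∀ r χ, χ ∉ O → v r χ = 0 := fun r χ hχ => by
    by_cases hb : χ ∈ b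
    · obtain ⟨i, -, rfl⟩ := Finset.mem_image.1 (show χ ∈ I by
        by_contra h
        exact hχ (Finset.mem_sdiff.2 ⟨mem_blockFinset.2 hb, h⟩))
      exact hvI r i
    · exact (hoff χ hb).2 r
  -- rows are exact
  have hexact : ∀ a, ∀ ξ ∈ b, ∃ r : ℤ, Odd r ∧
      w * ∑ t, qv t a * Qr t ξ + T0 a * T ξ = 2 ^ blockHeight 2 b (ξ : H → ℂ) * r := by
    intro a ξ hξ
    obtain ⟨r, hr, he⟩ := exact_entry hM hB (hAb a) (hA0 a) hξ
    have h := hL (Pi.single a 1) ξ hξ
    simp only [L, Pi.single_apply, ite_mul, zero_mul, one_mul, Finset.sum_ite_eq', Finset.mem_univ,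
      if_true, he] at h
    refine ⟨ε (Sum.inl a) * r, ?_, by rw [← h]; ring⟩
    rcases hF.sign (Sum.inl a) with e' | e' <;> simp [e', hr]
  have hne : ∀ a, ∀ ξ ∈ b, w * ∑ t, qv t a * Qr t ξ + T0 a * T ξ ≠ 0 := fun a ξ hξ h => by
    obtain ⟨r, hr, he⟩ := hexact a ξ hξ
    rw [h] at he
    rcases mul_eq_zero.1 he.symm with h' | h'
    · exact pow_ne_zero _ two_ne_zero h'
    · subst h'; simp at hr
  have heven : ∀ a, ∀ ξ ∈ O, (2 : ℤ) ∣ w * ∑ t, qv t a * Qr t ξ + T0 a * T ξ := fun a ξ hξ => by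
    obtain ⟨r, -, he⟩ := hexact a ξ (hOb ξ hξ)
    rw [he]
    exact (dvd_pow_self 2 (hOht ξ hξ)).mul_right r
  -- the orthogonality with the relations `v`
  have hu4 : ∀ g : H, ¬ 2 ∣ orderOf g → ∀ x : H, σ ^ q ∉ Subgroup.zpowers (x⁻¹ * g * x) := by
    intro g hg x h
    have h1 := orderOf_dvd_of_mem_zpowers h
    rw [hd.orderOf_u, show x⁻¹ * g * x = MulAut.conj x⁻¹ g by simp, MulEquiv.orderOf_eq] at h1
    exact hg ((show 2 ∣ 4 from ⟨2, rfl⟩).trans h1)
  have hvL : ∀ r cc, ∑ χ ∈ blockFinset b, v r χ * (L cc χ : ℂ) = 0 := by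
    intro r cc
    simp only [L, Int.cast_sum, Int.cast_mul, Finset.mul_sum]
    rw [Finset.sum_comm]
    refine Finset.sum_eq_zero fun a _ => ?_
    rw [← mul_zero ((cc a : ℂ) * (ε (Sum.inl a) : ℂ)), ← sum_mul_scaledReg_eq_zero hM hB
      (c := v r) (fun g hg => (hsupp g (hu4 g hg)).2 r) (A a), Finset.mul_sum]
    refine Finset.sum_congr rfl fun χ _ => ?_
    rw [H32.scaledReg_comm (A a)]
    ring
  have hOsum : ∀ r (F : IrrCharacter H → ℂ),
      ∑ χ ∈ O, v r χ * F χ = ∑ χ ∈ blockFinset b, v r χ * F χ := fun r F =>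
    Finset.sum_subset Finset.sdiff_subset fun χ _ hχ => by rw [hvO r χ hχ, zero_mul]
  have hvT : ∀ r, ∑ χ ∈ O, v r χ * (T χ : ℂ) = 0 := fun r => by
    rw [hOsum]
    refine (mul_eq_zero.1 ((?_ : (4 : ℂ) * _ = 0))).resolve_left (by norm_num)
    rw [← hvL r T0, Finset.mul_sum]
    refine Finset.sum_congr rfl fun χ hχ => ?_
    rw [hLT χ (mem_blockFinset.1 hχ)]
    push_cast
    ring
  have hvQ : ∀ r t, ∑ χ ∈ O, v r χ * (Qr t χ : ℂ) = 0 := fun r t => by
    rw [hOsum]
    refine (mul_eq_zero.1 ((?_ : (4 * (q : ℂ)) * _ = 0))).resolve_left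
      (mul_ne_zero (by norm_num) (Nat.cast_ne_zero.2 hqpos.ne'))
    rw [← hvL r (qv t), Finset.mul_sum]
    refine Finset.sum_congr rfl fun χ hχ => ?_
    rw [hLQ t χ (mem_blockFinset.1 hχ)]
    push_cast
    ring
  have hmq : (m : ℤ) + 1 = q := by exact_mod_cast hF.m_eq
  have hTTO : ∑ χ ∈ O, T χ * T χ = 4 * (q : ℤ) := by
    have h := hTT
    rw [hsplit, Finset.sum_congr rfl (s₁ := Finset.univ) fun i _ => show
      T (ch i) * T (ch i) = vecT m i * vecT m i by
        rw [hTch]; linear_combination (vecT m i * vecT m i) * hεsq i, Fintype.sum_sum_type] at h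
    simp [vecT, Fin.sum_univ_four] at h
    linarith
  have hTQO : ∀ t, ∑ χ ∈ O, T χ * Qr t χ = 0 := fun t => by
    have h := hTQ t
    rw [hsplit, Finset.sum_congr rfl (s₁ := Finset.univ) fun i _ => show
      T (ch i) * Qr t (ch i) = vecT m i * vecQ m (qv t) i by
        rw [hTch, hQch]; linear_combination (vecT m i * vecQ m (qv t) i) * hεsq i,
      Fintype.sum_sum_type] at h
    simp only [vecT, vecQ, Sum.elim_inl, Sum.elim_inr, mul_zero, Finset.sum_const_zero, add_zero] at h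
    rw [show ∑ a, ![1, 1, -1, -1] a * qv t a = (0 : ℤ) by
      rw [← hqT t]; exact Finset.sum_congr rfl fun a _ => mul_comm _ _, add_zero] at h
    exact h
  have hQQO : ∀ t s, ∑ χ ∈ O, Qr t χ * Qr s χ = if t = s then N else 0 := fun t s => by
    have h := hQQ t s
    rw [hsplit, Finset.sum_congr rfl (s₁ := Finset.univ) fun i _ => show
      Qr t (ch i) * Qr s (ch i) = vecQ m (qv t) i * vecQ m (qv s) i by
        rw [hQch, hQch]; linear_combination (vecQ m (qv t) i * vecQ m (qv s) i) * hεsq i,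
      Fintype.sum_sum_type] at h
    simp only [vecQ, Sum.elim_inl, Sum.elim_inr, mul_zero, Finset.sum_const_zero, add_zero, hqq] at h
    split_ifs at h ⊢ <;> linarith
  -- the relations and columns are independent outside
  let Fam : Fin (q - 1) ⊕ (Unit ⊕ Fin e) → O → ℂ := Sum.elim (fun r χ => v r χ)
    (Sum.elim (fun _ χ => (T χ : ℂ)) fun t χ => (Qr t χ : ℂ))
  have hindep : LinearIndependent ℂ Fam := by
    rw [Fintype.linearIndependent_iff]
    intro g hg
    have hpt : ∀ χ ∈ O, ∑ r, g (Sum.inl r) * v r χ + (g (Sum.inr (Sum.inl ())) * (T χ : ℂ) +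
        ∑ t, g (Sum.inr (Sum.inr t)) * (Qr t χ : ℂ)) = 0 := fun χ hχ => by
      simpa [Fam, Fintype.sum_sum_type] using congrFun hg ⟨χ, hχ⟩
    have hpair : ∀ F : IrrCharacter H → ℂ, (∀ r, ∑ χ ∈ O, v r χ * F χ = 0) →
        g (Sum.inr (Sum.inl ())) * (∑ χ ∈ O, (T χ : ℂ) * F χ) +
          ∑ t, g (Sum.inr (Sum.inr t)) * ∑ χ ∈ O, (Qr t χ : ℂ) * F χ = 0 := by
      intro F hF'
      have h : ∑ χ ∈ O, (∑ r, g (Sum.inl r) * v r χ + (g (Sum.inr (Sum.inl ())) * (T χ : ℂ) +
          ∑ t, g (Sum.inr (Sum.inr t)) * (Qr t χ : ℂ))) * F χ = 0 :=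
        Finset.sum_eq_zero fun χ hχ => by rw [hpt χ hχ, zero_mul]
      simp only [add_mul, Finset.sum_add_distrib, Finset.sum_mul] at h
      rw [Finset.sum_comm (t := (Finset.univ : Finset (Fin (q - 1)))),
        Finset.sum_comm (t := (Finset.univ : Finset (Fin e)))] at h
      simp only [mul_assoc, ← Finset.mul_sum, hF', mul_zero, Finset.sum_const_zero, zero_add] at h
      exact h
    have hgT : g (Sum.inr (Sum.inl ())) = 0 := by
      have h := hpair (fun χ => (T χ : ℂ)) hvT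
      rw [show ∑ χ ∈ O, (T χ : ℂ) * (T χ : ℂ) = 4 * (q : ℂ) by exact_mod_cast hTTO,
        Finset.sum_eq_zero (s := (Finset.univ : Finset (Fin e))) fun t _ => by
          rw [show ∑ χ ∈ O, (Qr t χ : ℂ) * (T χ : ℂ) = 0 by
            rw [Finset.sum_congr rfl fun χ _ => mul_comm (Qr t χ : ℂ) (T χ : ℂ)]
            exact_mod_cast hTQO t, mul_zero], add_zero] at h
      exact (mul_eq_zero.1 h).resolve_right (mul_ne_zero (by norm_num) (Nat.cast_ne_zero.2 hqpos.ne'))
    have hgQ : ∀ t, g (Sum.inr (Sum.inr t)) = 0 := by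
      intro s
      have h := hpair (fun χ => (Qr s χ : ℂ)) fun r => hvQ r s
      rw [hgT, zero_mul, zero_add, Finset.sum_eq_single s (fun t _ ht => by
          rw [show ∑ χ ∈ O, (Qr t χ : ℂ) * (Qr s χ : ℂ) = 0 by
            exact_mod_cast (hQQO t s).trans (if_neg ht), mul_zero]) (by simp),
        show ∑ χ ∈ O, (Qr s χ : ℂ) * (Qr s χ : ℂ) = (N : ℂ) by
          exact_mod_cast (hQQO s s).trans (if_pos rfl)] at h
      exact (mul_eq_zero.1 h).resolve_right (Int.cast_ne_zero.2 hN0)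
    have hgv : ∀ r, g (Sum.inl r) = 0 := by
      refine Fintype.linearIndependent_iff.1 hvind (fun r => g (Sum.inl r)) (funext fun χ => ?_)
      rw [Finset.sum_apply, Pi.zero_apply]
      simp only [Pi.smul_apply, smul_eq_mul]
      by_cases hχ : χ ∈ O
      · simpa [hgT, hgQ] using hpt χ hχ
      · simp [hvO _ χ hχ]
    rintro (r | ⟨⟩ | t)
    · exact hgv r
    · exact hgT
    · exact hgQ t
  have hcardO : q + e ≤ O.card := by
    have h := hindep.fintype_card_le_finrank
    rw [Module.finrank_fintype_fun_eq_card, Fintype.card_coe] at h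
    simp at h
    omega
  set S := O.filter fun χ => T χ ≠ 0 with hS
  -- `T` is even outside, so lives on at most `q` members
  have hScard : (∀ χ ∈ O, (2 : ℤ) ∣ T χ) → S.card ≤ q ∧ (q ≤ S.card → ∀ χ ∈ S, T χ * T χ = 4) := by
    intro hev
    have h4 : ∀ χ ∈ S, (4 : ℤ) ≤ T χ * T χ := fun χ hχ => by
      obtain ⟨r, hr⟩ := hev χ (Finset.mem_filter.1 hχ).1
      have hne := (Finset.mem_filter.1 hχ).2
      have : (1 : ℤ) ≤ r * r := Int.add_one_le_iff.2 (mul_self_pos.2 fun e' => hne (by rw [hr, e', mul_zero]))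
      rw [hr]; linarith
    have hsum : ∑ χ ∈ S, T χ * T χ = 4 * (q : ℤ) := by
      rw [← hTTO]
      exact Finset.sum_subset (Finset.filter_subset _ _) fun χ hχ hn => by
        have h0 : T χ = 0 := by by_contra h; exact hn (Finset.mem_filter.2 ⟨hχ, h⟩)
        rw [h0, mul_zero]
    have h := Finset.card_nsmul_le_sum S (fun χ => T χ * T χ) 4 h4
    rw [hsum, nsmul_eq_mul] at h
    refine ⟨by exact_mod_cast (by linarith : (S.card : ℤ) ≤ q), fun hge χ hχ => ?_⟩
    have heq : ∑ χ ∈ S, (T χ * T χ - 4) = 0 := by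
      have hge' : (q : ℤ) ≤ S.card := by exact_mod_cast hge
      rw [Finset.sum_sub_distrib, hsum, Finset.sum_const, nsmul_eq_mul]
      linarith
    have := (Finset.sum_eq_zero_iff_of_nonneg fun χ hχ => by have := h4 χ hχ; omega).1 heq χ hχ
    omega
  rcases hgood with ⟨-, he, hzero⟩ | ⟨hN4, hwq, he2, hpat⟩
  · -- a single short pattern is impossible
    exfalso
    obtain ⟨a, ha⟩ := hzero ⟨0, by omega⟩
    have hval : ∀ ξ, w * ∑ t, qv t a * Qr t ξ + T0 a * T ξ = T0 a * T ξ := fun ξ => by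
      rw [Finset.sum_eq_zero fun t _ => by
        rw [show t = ⟨0, by omega⟩ from Fin.ext (by omega), ha, zero_mul], mul_zero, zero_add]
    have hT0a : T0 a = 1 ∨ T0 a = -1 := by fin_cases a <;> simp [T0]
    have hev : ∀ χ ∈ O, (2 : ℤ) ∣ T χ := fun χ hχ => by
      have h := heven a χ hχ
      rw [hval] at h
      rcases hT0a with e' | e' <;> simp [e'] at h <;> exact h
    have hall : O = S := by
      rw [hS]
      refine (Finset.filter_true_of_mem fun χ hχ (h : T χ = 0) => ?_).symm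
      exact hne a χ (hOb χ hχ) (by rw [hval, h, mul_zero])
    have := (hScard hev).1
    rw [← hall] at this
    omega
  subst hN4 hwq
  -- parities
  have hpar : ∀ t, ∀ χ ∈ b, (2 : ℤ) ∣ Qr t χ - T χ := by
    intro t χ hχ
    simp only [Qr, T, dif_pos hχ, ← Finset.sum_sub_distrib, ← mul_sub]
    refine Finset.dvd_sum fun i _ => Dvd.dvd.mul_left ?_ _
    rcases i with a | y
    · simp only [vecQ, vecT, Sum.elim_inl, hpat, pat]
      split_ifs <;> fin_cases a <;> norm_num
    · simp [vecQ, vecT]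
  have hev : ∀ χ ∈ O, (2 : ℤ) ∣ T χ := by
    intro χ hχ
    have h0 := heven 0 χ hχ
    simp only [T0, Matrix.cons_val_zero, one_mul] at h0
    by_cases hqev : 2 ∣ q
    · exact (dvd_add_right ((Int.natCast_dvd_natCast.2 hqev).mul_right _)).1 h0
    have hq1 : q = 1 := by
      rcases k with - | k
      · simpa using hk
      · exact absurd ⟨2 ^ k, by rw [hk, pow_succ']⟩ hqev
    simp only [hq1, Nat.cast_one, one_mul] at h0
    have hQ : ∀ t, (2 : ℤ) ∣ qv t 0 * Qr t χ - T χ := fun t => by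
      rw [hpat, pat]
      split_ifs <;> simpa using hpar t χ (hOb χ hχ)
    have h2 : (2 : ℤ) ∣ ((e : ℤ) + 1) * T χ := by
      have hs : (2 : ℤ) ∣ ∑ t, (qv t 0 * Qr t χ - T χ) := Finset.dvd_sum fun t _ => hQ t
      rw [Finset.sum_sub_distrib, Finset.sum_const, Finset.card_univ, Fintype.card_fin,
        nsmul_eq_mul] at hs
      have h := dvd_sub h0 hs
      refine h.trans (dvd_of_eq ?_)
      ring
    rcases (show e = 0 ∨ e = 1 ∨ e = 2 by omega) with he | he | he
    · subst he; simpa using h2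
    · -- one column: both entries are units and one row entry vanishes
      subst he
      by_contra hodd'
      have hq4 : Qr 0 χ * Qr 0 χ ≤ 4 := by
        rw [← (hQQO 0 0).trans (if_pos rfl)]
        exact Finset.single_le_sum (f := fun χ => Qr 0 χ * Qr 0 χ)
          (fun y _ => mul_self_nonneg _) hχ
      have ht4 : T χ * T χ ≤ 4 := by
        have h := Finset.single_le_sum (f := fun χ => T χ * T χ) (fun y _ => mul_self_nonneg _) hχ
        rw [hTTO, hq1] at h
        simpa using h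
      have e0 := hne 0 χ (hOb χ hχ)
      have e1 := hne 1 χ (hOb χ hχ)
      simp [T0, hpat, pat, hq1] at e0 e1
      have := hpar 0 χ (hOb χ hχ)
      have t1 : -2 ≤ T χ ∧ T χ ≤ 2 := by constructor <;> nlinarith
      have t2 : -2 ≤ Qr 0 χ ∧ Qr 0 χ ≤ 2 := by constructor <;> nlinarith
      omega
    · subst he
      refine (dvd_sub h2 (dvd_mul_right 2 (T χ))).trans (dvd_of_eq ?_)
      push_cast
      ring
  have hQev : ∀ t, ∀ χ ∈ O, (2 : ℤ) ∣ Qr t χ := fun t χ hχ => by
    have h := dvd_add (hpar t χ (hOb χ hχ)) (hev χ hχ)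
    rwa [sub_add_cancel] at h
  have hWex : ∀ t, ∃ χ ∈ O, Qr t χ * Qr t χ = 4 ∧ ∀ ξ ∈ O, ξ ≠ χ → Qr t ξ = 0 := by
    intro t
    have hsum : ∑ χ ∈ O, Qr t χ * Qr t χ = 4 := (hQQO t t).trans (if_pos rfl)
    obtain ⟨χ, hχ, hne'⟩ := Finset.exists_ne_zero_of_sum_ne_zero (by rw [hsum]; norm_num)
    have h4 : ∀ ξ ∈ O, Qr t ξ ≠ 0 → (4 : ℤ) ≤ Qr t ξ * Qr t ξ := fun ξ hξ h => by
      obtain ⟨r, hr⟩ := hQev t ξ hξ
      have : (1 : ℤ) ≤ r * r :=
        Int.add_one_le_iff.2 (mul_self_pos.2 fun e' => h (by rw [hr, e', mul_zero]))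
      rw [hr]; linarith
    have hχ0 : Qr t χ ≠ 0 := fun h => hne' (by rw [h, mul_zero])
    have hrest := Finset.add_sum_erase O (fun ξ => Qr t ξ * Qr t ξ) hχ
    rw [hsum] at hrest
    have hnn : (0 : ℤ) ≤ ∑ ξ ∈ O.erase χ, Qr t ξ * Qr t ξ :=
      Finset.sum_nonneg fun y _ => mul_self_nonneg _
    refine ⟨χ, hχ, by have := h4 χ hχ hχ0; omega, fun ξ hξ hne'' => ?_⟩
    by_contra h
    have h5 := h4 ξ hξ h
    have h6 := Finset.single_le_sum (f := fun ξ => Qr t ξ * Qr t ξ)
      (fun y _ => mul_self_nonneg _) (Finset.mem_erase.2 ⟨hne'', hξ⟩)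
    have := h4 χ hχ hχ0
    omega
  choose W hWO hW4 hW0 using hWex
  have hcov : O ⊆ S ∪ Finset.univ.image W := by
    intro χ hχ
    by_cases hT : T χ ≠ 0
    · exact Finset.mem_union_left _ (Finset.mem_filter.2 ⟨hχ, hT⟩)
    push Not at hT
    refine Finset.mem_union_right _ ?_
    by_contra h
    refine hne 0 χ (hOb χ hχ) ?_
    rw [hT, mul_zero, add_zero, Finset.sum_eq_zero fun t _ => by
      rw [hW0 t χ hχ fun e' => h (Finset.mem_image.2 ⟨t, Finset.mem_univ _, e'.symm⟩), mul_zero],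
      mul_zero]
  obtain ⟨hSle, hSeq⟩ := hScard hev
  have himg : (Finset.univ.image W).card ≤ e := Finset.card_image_le.trans (by simp)
  have hboth := ((Finset.card_le_card hcov).trans (Finset.card_union_le _ _))
  have hScq : S.card = q := by omega
  have hWe : (Finset.univ.image W).card = e := by omega
  have hWinj : Function.Injective W := by
    intro t s h
    exact Finset.injOn_of_card_image_eq (by rw [hWe]; simp) (Finset.mem_coe.2 (Finset.mem_univ t))
      (Finset.mem_coe.2 (Finset.mem_univ s)) h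
  have hdisj : ∀ t, W t ∉ S := fun t h => by
    have h2 : (S ∪ Finset.univ.image W).card < S.card + (Finset.univ.image W).card := by
      rw [← Finset.card_union_add_card_inter]
      exact Nat.lt_add_of_pos_right (Finset.card_pos.2
        ⟨W t, Finset.mem_inter.2 ⟨h, Finset.mem_image_of_mem W (Finset.mem_univ t)⟩⟩)
    have := Finset.card_le_card hcov
    omega
  have hTW : ∀ t, T (W t) = 0 := fun t => by
    by_contra h
    exact hdisj t (Finset.mem_filter.2 ⟨hWO t, h⟩)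
  have hT2 := hSeq hScq.ge
  have hQS : ∀ t, ∀ χ ∈ S, Qr t χ = 0 := fun t χ hχ =>
    hW0 t χ (Finset.mem_filter.1 hχ).1 fun e' => hdisj t (e' ▸ hχ)
  -- the index
  have hcX : Fintype.card (Fin (2 * q - 1)) = Fintype.card (Fin m ⊕ ↥S) := by
    simp [hScq]
    have := hF.m_eq
    omega
  let eX := Fintype.equivOfCardEq hcX
  let chX : Fin m ⊕ ↥S → IrrCharacter H := Sum.elim (fun y => ch (Sum.inr y)) fun χ => χ
  let sgX : Fin m ⊕ ↥S → ℤ := Sum.elim (fun y => ε (Sum.inr y)) fun χ => -(T χ / 2)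
  let κ₀ : Fin m ⊕ ↥S → ℤ := Sum.elim (fun _ => 1) fun _ => -1
  let ch' : J q e → IrrCharacter H :=
    Sum.elim (fun a => ch (Sum.inl a)) (Sum.elim (fun x => chX (eX x)) W)
  let sg : J q e → ℤ :=
    Sum.elim (fun a => ε (Sum.inl a)) (Sum.elim (fun x => sgX (eX x)) fun t => -(Qr t (W t) / 2))
  have hSO : ∀ χ : ↥S, (χ : IrrCharacter H) ∈ O := fun χ => (Finset.mem_filter.1 χ.2).1
  have hmemI : ∀ i, ch i ∉ O := fun i h =>
    (Finset.mem_sdiff.1 h).2 (Finset.mem_image_of_mem ch (Finset.mem_univ i))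
  have hchX : Function.Injective chX :=
    (hF.inj.comp Sum.inr_injective).sumElim Subtype.val_injective
      fun y χ (h : ch (Sum.inr y) = χ) => hmemI (Sum.inr y) (by rw [h]; exact hSO χ)
  have hhalf : ∀ {x : ℤ}, x * x = 4 → (-(x / 2) = 1 ∨ -(x / 2) = -1) ∧ -(x / 2) * x = -2 := by
    intro x hx
    rcases mul_self_eq_mul_self_iff.1 (show x * x = 2 * 2 by rw [hx]; norm_num) with h | h <;>
      subst h <;> norm_num
  have hsgn : ∀ i, sg i = 1 ∨ sg i = -1 := by
    rintro (a | x | t)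
    · exact hF.sign _
    · show sgX (eX x) = 1 ∨ sgX (eX x) = -1
      rcases eX x with y | χ
      · exact hF.sign _
      · exact (hhalf (hT2 χ χ.2)).1
    · exact (hhalf (hW4 t)).1
  have hmem' : ∀ i, ch' i ∈ b := by
    rintro (a | x | t)
    · exact hF.mem _
    · show chX (eX x) ∈ b
      rcases eX x with y | χ
      · exact hF.mem _
      · exact hOb _ (hSO χ)
    · exact hOb _ (hWO t)
  have hrT : ∀ i, sg i * T (ch' i) = rowT q e i := by
    rintro (a | x | t)
    · show ε (Sum.inl a) * T (ch (Sum.inl a)) = T0 a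
      rw [hTch, ← mul_assoc, hεsq, one_mul]; rfl
    · show sgX (eX x) * T (chX (eX x)) = -2
      rcases eX x with y | χ
      · show ε (Sum.inr y) * T (ch (Sum.inr y)) = -2
        rw [hTch, ← mul_assoc, hεsq, one_mul]; rfl
      · exact (hhalf (hT2 χ χ.2)).2
    · show _ * T (W t) = 0
      rw [hTW, mul_zero]
  have hrQ : ∀ s i, sg i * Qr s (ch' i) = rowQ q s i := by
    intro s
    rintro (a | x | t)
    · show ε (Sum.inl a) * Qr s (ch (Sum.inl a)) = pat s a
      rw [hQch, ← mul_assoc, hεsq, one_mul, ← hpat]; rfl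
    · show sgX (eX x) * Qr s (chX (eX x)) = 0
      rcases eX x with y | χ
      · show ε (Sum.inr y) * Qr s (ch (Sum.inr y)) = 0
        rw [hQch]
        simp [vecQ]
      · show _ * Qr s (χ : IrrCharacter H) = 0
        rw [hQS s χ χ.2, mul_zero]
    · show -(Qr t (W t) / 2) * Qr s (W t) = if t = s then -2 else 0
      by_cases hts : t = s
      · subst hts
        rw [if_pos rfl]
        exact (hhalf (hW4 t)).2
      · rw [if_neg hts, hW0 s _ (hWO t) fun e' => hts (hWinj e'), mul_zero]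
  have hchinj : Function.Injective ch' := by
    refine (hF.inj.comp Sum.inl_injective).sumElim
      ((hchX.comp eX.injective).sumElim hWinj fun x t => ?_) fun a x => ?_
    · show chX (eX x) ≠ W t
      rcases eX x with y | χ
      · exact fun h => hmemI (Sum.inr y) (by
          show ch (Sum.inr y) ∈ O
          rw [show ch (Sum.inr y) = W t from h]; exact hWO t)
      · exact fun h => hdisj t (by rw [← show (χ : IrrCharacter H) = W t from h]; exact χ.2)
    · intro h
      have hA' : ch (Sum.inl a) ∉ O := hmemI _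
      rcases x with x | t
      · change ch (Sum.inl a) = chX (eX x) at h
        rcases hx : eX x with y | χ <;> rw [hx] at h
        · cases hF.inj h
        · exact hA' (by rw [h]; exact hSO χ)
      · exact hA' (by rw [show ch (Sum.inl a) = W t from h]; exact hWO t)
  refine ⟨e, ch', sg, fun x => κ₀ (eX x), he2, fun x => ?_, ?_, hchinj, ?_, hsgn, ?_,
    fun i j => ?_, fun i => ?_, fun g hg hgz A' hA' => ?_⟩
  · rcases eX x with y | χ <;> simp [κ₀]
  · rw [Equiv.sum_comp eX κ₀]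
    simp [κ₀, Fintype.sum_sum_type, hScq]
    linarith
  · refine Set.Subset.antisymm (Set.range_subset_iff.2 hmem') fun χ hχ => ?_
    by_cases hO' : χ ∈ O
    · rcases Finset.mem_union.1 (hcov hO') with h | h
      · exact ⟨Sum.inr (Sum.inl (eX.symm (Sum.inr ⟨χ, h⟩))), by simp [ch', chX]⟩
      · obtain ⟨t, -, rfl⟩ := Finset.mem_image.1 h
        exact ⟨Sum.inr (Sum.inr t), rfl⟩
    · obtain ⟨i, -, rfl⟩ := Finset.mem_image.1 (show χ ∈ I by
        by_contra h
        exact hO' (Finset.mem_sdiff.2 ⟨mem_blockFinset.2 hχ, h⟩))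
      rcases i with a | y
      · exact ⟨Sum.inl a, rfl⟩
      · exact ⟨Sum.inr (Sum.inl (eX.symm (Sum.inl y))), by simp [ch', chX]⟩
  · rintro (a | x | t)
    · exact iff_of_true (hA0 a) ⟨a, rfl⟩
    · refine iff_of_false ?_ (by rintro ⟨a, h⟩; cases h)
      show blockHeight 2 b (chX (eX x) : H → ℂ) ≠ 0
      rcases eX x with y | χ
      · intro h
        obtain ⟨a, ha⟩ := (hF.height _).1 h
        cases ha
      · exact hOht _ (hSO χ)
    · exact iff_of_false (hOht _ (hWO t)) (by rintro ⟨a, h⟩; cases h)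
  · rw [hform _ (hmem' i) _ (hmem' j), ← hrT i, ← hrT j]
    simp only [← hrQ, mul_add, Finset.mul_sum]
    congr 1
    · exact Finset.sum_congr rfl fun s _ => by ring
    · ring
  · have hO1 : ∀ χ ∈ O, (χ : H → ℂ) z = ((-1 : ℤ) : ℂ) * (χ : H → ℂ) 1 := fun χ hχ => by
      have := hzO χ hχ 1
      rw [mul_one] at this
      rw [this]; push_cast; ring
    rcases i with a | x | t
    · show (ch (Sum.inl a) : H → ℂ) z = ((1 : ℤ) : ℂ) * _
      rw [hF.triv, Int.cast_one, one_mul]; rfl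
    · show (chX (eX x) : H → ℂ) z = (κ₀ (eX x) : ℂ) * (chX (eX x) : H → ℂ) 1
      rcases eX x with y | χ
      · show (ch (Sum.inr y) : H → ℂ) z = ((1 : ℤ) : ℂ) * (ch (Sum.inr y) : H → ℂ) 1
        rw [hF.triv, Int.cast_one, one_mul]
      · exact hO1 _ (hSO χ)
    · exact hO1 _ (hWO t)
  -- the values away from `z`
  have hzg : 2 ∣ orderOf (z * g) := by
    by_contra h
    refine hgz ?_
    have hc : Commute z (z * g) := by
      show z * (z * g) = z * g * z
      rw [mul_assoc z g z, hz g]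
    have he : g = z * (z * g) := by rw [← mul_assoc, hz2, one_mul]
    obtain ⟨r, hr⟩ : Odd (orderOf (z * g)) :=
      Nat.not_even_iff_odd.1 fun h' => h (even_iff_two_dvd.1 h')
    refine ⟨(orderOf (z * g) : ℤ), ?_⟩
    show g ^ (orderOf (z * g) : ℤ) = z
    rw [zpow_natCast, he, hc.mul_pow, ← he, pow_orderOf_eq_one, mul_one, hr, pow_succ, pow_mul,
      pow_two, hz2, one_pow, one_mul]
  have hug : ∀ x : H, σ ^ q ∉ Subgroup.zpowers (x⁻¹ * g * x) := by
    intro x h
    refine hgz ?_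
    obtain ⟨r, hr⟩ := Subgroup.mul_mem _ h h
    change (x⁻¹ * g * x) ^ r = σ ^ q * σ ^ q at hr
    refine ⟨r, ?_⟩
    show g ^ r = z
    have h2 : g ^ r = x * (σ ^ q * σ ^ q) * x⁻¹ := by
      rw [← hr, ← conj_zpow]
      group
    rw [h2, hd.u_sq, ← hzdef, hz x, mul_inv_cancel_right]
  -- the columns at `g`, separately on both parts
  have hsum : ∀ cc : Fin 4 → ℤ, ∑ χ ∈ O, (L cc χ : ℂ) * (χ : H → ℂ) g = 0 ∧
      ∑ i, (L cc (ch i) : ℂ) * (ch i : H → ℂ) g = 0 := by
    intro cc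
    have h : ∀ g' : H, 2 ∣ orderOf g' →
        ∑ χ ∈ blockFinset b, (L cc χ : ℂ) * (χ : H → ℂ) g' = 0 := by
      intro g' hg'
      simp only [L, Int.cast_sum, Int.cast_mul, Finset.sum_mul]
      rw [Finset.sum_comm]
      refine Finset.sum_eq_zero fun a _ => ?_
      simp only [mul_assoc, ← Finset.mul_sum]
      rw [sum_scaledReg_apply hM hB (hAb a) hg', mul_zero, mul_zero]
    have h1 := h g hg
    have h2 := h _ hzg
    rw [hsplit] at h1 h2
    rw [Finset.sum_congr rfl fun χ hχ => show (L cc χ : ℂ) * (χ : H → ℂ) (z * g) =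
      -((L cc χ : ℂ) * (χ : H → ℂ) g) by rw [hzO χ hχ g, mul_neg], Finset.sum_neg_distrib,
      Finset.sum_congr rfl fun i _ => show (L cc (ch i) : ℂ) * (ch i : H → ℂ) (z * g) =
      (L cc (ch i) : ℂ) * (ch i : H → ℂ) g by rw [hzI]] at h2
    constructor
    · linear_combination (1 / 2 : ℂ) * h1 - (1 / 2 : ℂ) * h2
    · linear_combination (1 / 2 : ℂ) * h1 + (1 / 2 : ℂ) * h2
  have hperp : ∀ χ ∈ O, (χ : H → ℂ) g = 0 := by
    let ev : (O → ℂ) →ₗ[ℂ] ℂ :=
      { toFun := fun f => ∑ χ : O, f χ * ((χ : IrrCharacter H) : H → ℂ) g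
        map_add' := fun f f' => by simp [add_mul, Finset.sum_add_distrib]
        map_smul' := fun r f => by simp [mul_assoc, Finset.mul_sum] }
    have hev0 : ∀ i, ev (Fam i) = 0 := by
      rintro (r | ⟨⟩ | t)
      · show ∑ χ : O, v r χ * ((χ : IrrCharacter H) : H → ℂ) g = 0
        rw [Finset.sum_coe_sort O fun χ => v r χ * (χ : H → ℂ) g, hOsum]
        exact (hsupp g hug).2 r
      · show ∑ χ : O, (T χ : ℂ) * ((χ : IrrCharacter H) : H → ℂ) g = 0
        rw [Finset.sum_coe_sort O fun χ => (T χ : ℂ) * (χ : H → ℂ) g]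
        refine (mul_eq_zero.1 ((?_ : (4 : ℂ) * _ = 0))).resolve_left (by norm_num)
        rw [← (hsum T0).1, Finset.mul_sum]
        refine Finset.sum_congr rfl fun χ hχ => ?_
        rw [hLT χ (hOb χ hχ)]; push_cast; ring
      · show ∑ χ : O, (Qr t χ : ℂ) * ((χ : IrrCharacter H) : H → ℂ) g = 0
        rw [Finset.sum_coe_sort O fun χ => (Qr t χ : ℂ) * (χ : H → ℂ) g]
        refine (mul_eq_zero.1 ((?_ : (4 * (q : ℂ)) * _ = 0))).resolve_left
          (mul_ne_zero (by norm_num) (Nat.cast_ne_zero.2 hqpos.ne'))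
        rw [← (hsum (qv t)).1, Finset.mul_sum]
        refine Finset.sum_congr rfl fun χ hχ => ?_
        rw [hLQ t χ (hOb χ hχ)]; push_cast; ring
    have hOc : O.card = q + e := by
      have := Finset.card_le_card hcov
      omega
    have htop := hindep.span_eq_top_of_card_eq_finrank' (by
      rw [Module.finrank_fintype_fun_eq_card, Fintype.card_coe, hOc]
      simp
      omega)
    have h0 : ev = 0 := LinearMap.ext_on_range htop fun i => by rw [hev0, LinearMap.zero_apply]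
    intro χ hχ
    have := LinearMap.congr_fun h0 (Pi.single ⟨χ, hχ⟩ 1)
    simpa [ev, Pi.single_apply] using this
  let B' : Ix m → ℂ := fun i => (ε i : ℂ) * (ch i : H → ℂ) g
  have hE' : B' (Sum.inl 0) + B' (Sum.inl 1) + B' (Sum.inl 2) + B' (Sum.inl 3) = 0 := by
    have h := hF.suppE g hug
    simp [comb, vecE, Fintype.sum_sum_type, Fin.sum_univ_four] at h
    exact h
  have hW' : ∀ y, B' (Sum.inl 0) + B' (Sum.inl 1) + B' (Sum.inr y) = 0 := fun y => by
    have h := hF.suppW y g hug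
    simp [comb, vecW, Fintype.sum_sum_type, Fin.sum_univ_four, ite_mul] at h
    exact h
  have hTg : B' (Sum.inl 0) + B' (Sum.inl 1) - B' (Sum.inl 2) - B' (Sum.inl 3) +
      ∑ y, (-2 : ℂ) * B' (Sum.inr y) = 0 := by
    have h := (hsum T0).2
    rw [Finset.sum_congr rfl fun i _ => show (L T0 (ch i) : ℂ) * (ch i : H → ℂ) g =
      4 * ((vecT m i : ℂ) * B' i) by
        rw [hLT _ (hF.mem i), hTch]; push_cast; ring, ← Finset.mul_sum, Fintype.sum_sum_type] at h
    have h' := (mul_eq_zero.1 h).resolve_left (by norm_num)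
    simp [vecT, Fin.sum_univ_four] at h'
    rw [← h']
    simp
    ring
  have hAB : B' (Sum.inl 0) + B' (Sum.inl 1) = 0 := by
    rw [Finset.sum_congr rfl fun y _ => show (-2 : ℂ) * B' (Sum.inr y) =
      2 * (B' (Sum.inl 0) + B' (Sum.inl 1)) by linear_combination (-2 : ℂ) * hW' y,
      Finset.sum_const, Finset.card_univ, Fintype.card_fin, nsmul_eq_mul] at hTg
    have h2 : (2 * ((m : ℂ) + 1)) * (B' (Sum.inl 0) + B' (Sum.inl 1)) = 0 := by
      linear_combination hTg + hE'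
    exact (mul_eq_zero.1 h2).resolve_left
      (mul_ne_zero two_ne_zero (by exact_mod_cast Nat.succ_ne_zero m))
  have hCD : B' (Sum.inl 2) + B' (Sum.inl 3) = 0 := by linear_combination hE' - hAB
  have hX : ∀ y, B' (Sum.inr y) = 0 := fun y => by linear_combination hW' y - hAB
  have hQg : ∀ t : Fin e, ∑ a, (pat t a : ℂ) * B' (Sum.inl a) = 0 := by
    intro t
    have h := (hsum (qv t)).2
    rw [Finset.sum_congr rfl fun i _ => show (L (qv t) (ch i) : ℂ) * (ch i : H → ℂ) g =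
      (4 * (q : ℂ)) * ((vecQ m (qv t) i : ℂ) * B' i) by
        rw [hLQ t _ (hF.mem i), hQch]; push_cast; ring, ← Finset.mul_sum, Fintype.sum_sum_type] at h
    have h' := (mul_eq_zero.1 h).resolve_left
      (mul_ne_zero (by norm_num) (Nat.cast_ne_zero.2 hqpos.ne'))
    simpa [vecQ, hpat] using h'
  have hAl : ∀ a, A' (Sum.inl a) = B' (Sum.inl a) := fun a => hA' _
  refine ⟨fun j => ?_, by rw [hAl, hAl]; exact hAB, by rw [hAl, hAl]; exact hCD, fun he1 => ?_,
    fun he => ?_⟩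
  · rw [hA']
    rcases j with x | t
    · show (sgX (eX x) : ℂ) * (chX (eX x) : H → ℂ) g = 0
      rcases eX x with y | χ
      · exact hX y
      · show _ * ((χ : IrrCharacter H) : H → ℂ) g = 0
        rw [hperp _ (hSO χ), mul_zero]
    · show _ * (W t : H → ℂ) g = 0
      rw [hperp _ (hWO t), mul_zero]
  · have h := hQg ⟨0, he1⟩
    simp [pat, Fin.sum_univ_four] at h
    rw [hAl, hAl]
    linear_combination (1 / 2 : ℂ) * h + (1 / 2 : ℂ) * hAB + (1 / 2 : ℂ) * hCD
  · have h := hQg ⟨1, by omega⟩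
    simp [pat, Fin.sum_univ_four] at h
    rw [hAl, hAl]
    linear_combination (1 / 2 : ℂ) * h + (1 / 2 : ℂ) * hAB + (1 / 2 : ℂ) * hCD

end Cfsg.Agent.H40.Tame
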